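import Mathlib

/-!
# Arithmetic for a faithful character of degree `p - 2`

The numerical step of the local analysis, and the two estimates of the block sums of
`|χ τ| ^ 2 χ x / χ 1`, which separate the trivial and the faithful central character.
-/

set_option autoImplicit false

namespace CfsgLib.PrimeDegreeTwo.Faithful

open Complex

/-- The numerical step of the local analysis. -/
theorem local_arith {p e f k : ℕ} (hp : 5 < p) (he : e ∣ p - 1) (h : e * f = k * p + 2) (hf : f ≤ k + 1)
    (hk : k + 3 ≤ p) : (k = 0 ∧ e * f = 2) ∨ k + 3 = p := by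
  obtain ⟨t, ht⟩ := he
  rcases Nat.lt_or_ge t 2 with ht2 | ht2
  · right
    have ht1 : t = 1 := by
      rcases (show t = 0 ∨ t = 1 by omega) with rfl | rfl
      · rw [mul_zero] at ht; omega
      · rfl
    subst ht1
    rw [mul_one] at ht
    subst ht
    have h1 : (p - 1) * f + f = p * f := by
      conv_lhs => rw [← Nat.succ_mul, Nat.succ_eq_add_one, Nat.sub_add_cancel (by omega : 1 ≤ p)]
    have h2 : k < f := by
      by_contra hle
      have : p * f ≤ p * k := Nat.mul_le_mul_left p (by omega)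
      rw [mul_comm k p] at h
      omega
    obtain rfl : f = k + 1 := by omega
    simp only [mul_add, mul_one] at h1 h
    rw [mul_comm k p] at h
    omega
  · left
    have h1 : e * 2 ≤ p - 1 := ht ▸ Nat.mul_le_mul_left e ht2
    have h2 : e * f * 2 ≤ (p - 1) * (k + 1) := by
      calc e * f * 2 = e * 2 * f := by ring
        _ ≤ (p - 1) * (k + 1) := Nat.mul_le_mul h1 hf
    have h3 : (p - 1) * (k + 1) + (k + 1) = p * (k + 1) := by
      conv_lhs => rw [← Nat.succ_mul, Nat.succ_eq_add_one, Nat.sub_add_cancel (by omega : 1 ≤ p)]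
    simp only [mul_add, mul_one] at h2 h3
    have hk0 : k = 0 := by
      by_contra hne
      have : p * 1 ≤ p * k := Nat.mul_le_mul_left p (by omega)
      rw [h, mul_comm k p] at h2
      omega
    subst hk0
    exact ⟨rfl, by rw [h, zero_mul]⟩

variable {p : ℝ}

/-- The block sum of the faithful central character is small. -/
theorem faithful_sum_le (hp : 7 ≤ p) {m d D : ℝ} (hm : 1 ≤ m) (hd : d = m * p + 1) (hD : D = d + (p - 2))
    {c v : ℂ} (hc : ‖c‖ = 1) (hv : ‖v‖ ≤ m + 1) :
    normSq c / (p - 2) + normSq v / d - normSq (v + c) / D ≤ (p - 1) ^ 2 / p ^ 2 := by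
  have hd0 : 0 < d := by nlinarith
  have hn0 : 0 < p - 2 := by linarith
  have hD0 : 0 < D := by linarith
  set w : ℂ := (d : ℂ) * c - ((p - 2 : ℝ) : ℂ) * v with hw
  have heq : normSq c / (p - 2) + normSq v / d - normSq (v + c) / D = normSq w / ((p - 2) * d * D) := by
    rw [hw, hD]
    simp only [normSq_apply, add_re, add_im, sub_re, sub_im, mul_re, mul_im, ofReal_re, ofReal_im]
    field_simp
    ring
  have hwle : ‖w‖ ≤ (2 * m + 1) * (p - 1) := by
    refine (norm_sub_le _ _).trans ?_
    rw [norm_mul, norm_mul, hc, Complex.norm_real, Complex.norm_real, Real.norm_eq_abs, Real.norm_eq_abs,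
      abs_of_pos hd0, abs_of_pos hn0]
    nlinarith [mul_le_mul_of_nonneg_left hv hn0.le]
  have hsq : normSq w ≤ ((2 * m + 1) * (p - 1)) ^ 2 := by
    rw [← Complex.sq_norm]
    exact pow_le_pow_left₀ (norm_nonneg w) hwle 2
  rw [heq, div_le_div_iff₀ (by positivity) (by positivity)]
  have hm2 : 2 ≤ m * (m + 1) := by nlinarith
  have hden : (2 * m + 1) ^ 2 * p ^ 2 ≤ (p - 2) * d * D := by
    have e1 : d * D = m * (m + 1) * p ^ 2 + p - 1 := by rw [hD, hd]; ring
    rw [mul_assoc, e1]
    have h1 : 5 * (m * (m + 1) * p ^ 2) ≤ (p - 2) * (m * (m + 1) * p ^ 2) :=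
      mul_le_mul_of_nonneg_right (by linarith) (by positivity)
    have h2 : 2 * p ^ 2 ≤ m * (m + 1) * p ^ 2 := mul_le_mul_of_nonneg_right hm2 (by positivity)
    nlinarith
  calc normSq w * p ^ 2 ≤ ((2 * m + 1) * (p - 1)) ^ 2 * p ^ 2 :=
        mul_le_mul_of_nonneg_right hsq (by positivity)
    _ = (p - 1) ^ 2 * ((2 * m + 1) ^ 2 * p ^ 2) := by ring
    _ ≤ (p - 1) ^ 2 * ((p - 2) * d * D) := mul_le_mul_of_nonneg_left hden (by positivity)

/-- The principal block sum, for a member of degree `1` modulo `p`. -/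
theorem principal_sum_plus (hp : 7 ≤ p) {m d : ℝ} (hm : 0 ≤ m) (hd : d = m * p + 1) {v : ℂ}
    (hv : ‖1 + v‖ ≤ m) :
    (p - 1) ^ 2 / p ^ 2 < 1 + normSq v / d - normSq (1 + v) / (d + 1) := by
  have hd0 : 0 < d := by nlinarith
  set w : ℂ := (d : ℂ) - v with hw
  have heq : 1 + normSq v / d - normSq (1 + v) / (d + 1) = normSq w / (d * (d + 1)) := by
    rw [hw]
    simp only [normSq_apply, add_re, add_im, sub_re, sub_im, ofReal_re, ofReal_im, one_re, one_im]
    field_simp
    ring
  have hwge : m * (p - 1) + 2 ≤ ‖w‖ := by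
    have h := norm_add_le w (1 + v)
    rw [show w + (1 + v) = ((d + 1 : ℝ) : ℂ) by rw [hw]; push_cast; ring, Complex.norm_real, Real.norm_eq_abs,
      abs_of_pos (by linarith)] at h
    rw [hd] at h
    linarith
  have hsq : (m * (p - 1) + 2) ^ 2 ≤ normSq w := by
    rw [← Complex.sq_norm]
    exact pow_le_pow_left₀ (by nlinarith) hwge 2
  rw [heq, div_lt_div_iff₀ (by positivity) (by positivity)]
  refine lt_of_lt_of_le ?_ (mul_le_mul_of_nonneg_right hsq (by positivity))
  rw [hd]
  have h1 : 0 ≤ m * (p - 1) * p * (4 * p - 3 * (p - 1)) :=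
    mul_nonneg (mul_nonneg (mul_nonneg hm (by linarith)) (by linarith)) (by linarith)
  nlinarith

/-- The principal block sum, for a member of degree `-1` modulo `p`. -/
theorem principal_sum_minus (hp : 7 ≤ p) {m d : ℝ} (hm : 1 ≤ m) (hd : d = m * p - 1) {v : ℂ}
    (hv : ‖v‖ ≤ m - 1) :
    (p - 1) ^ 2 / p ^ 2 < 1 - normSq v / d + normSq (v - 1) / (d - 1) := by
  have hd1 : 0 < d - 1 := by nlinarith
  have hd0 : 0 < d := by linarith
  set w : ℂ := (d : ℂ) - v with hw
  have heq : 1 - normSq v / d + normSq (v - 1) / (d - 1) = normSq w / (d * (d - 1)) := by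
    rw [hw]
    simp only [normSq_apply, sub_re, sub_im, ofReal_re, ofReal_im, one_re, one_im]
    field_simp
    ring
  have hwge : m * (p - 1) ≤ ‖w‖ := by
    have h := norm_add_le w v
    rw [show w + v = (d : ℂ) by rw [hw]; ring, Complex.norm_real, Real.norm_eq_abs, abs_of_pos hd0] at h
    rw [hd] at h
    linarith
  have hsq : (m * (p - 1)) ^ 2 ≤ normSq w := by
    rw [← Complex.sq_norm]
    exact pow_le_pow_left₀ (by nlinarith) hwge 2
  rw [heq, div_lt_div_iff₀ (by positivity) (by positivity)]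
  refine lt_of_lt_of_le ?_ (mul_le_mul_of_nonneg_right hsq (by positivity))
  rw [hd, show (m * (p - 1)) ^ 2 * p ^ 2 = (p - 1) ^ 2 * (m * p) ^ 2 by ring]
  refine mul_lt_mul_of_pos_left ?_ (by nlinarith)
  nlinarith

end CfsgLib.PrimeDegreeTwo.Faithful
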