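import Cfsg.Agent.Lib.PrimeDegreeTwo.Faithful.Local
import Cfsg.Agent.Lib.CharBlocks.ClassMul

/-!
# Blocks over a centraliser `P × Z(G)` of index `2` in its normaliser

Each linear `θ` of `C(P)` trivial on `P` carries a block with two members outside the exceptional
family. For an element `τ` inverting `P`, the sum of `|X τ| ^ 2 X x / X 1` over the block does not
depend on `θ`.
-/

set_option autoImplicit false
set_option maxHeartbeats 1600000

noncomputable section

namespace CfsgLib.PrimeDegreeTwo.Faithful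

open Cfsg CfsgLib.Blocks CfsgLib.Blocks.PrimeSylow CfsgLib.Blocks.PrimeLocal CfsgLib.Blocks.PrimeBlock
open scoped ComplexConjugate

variable {G : Type*} [Group G] [Fintype G] {p : ℕ} [hp : Fact p.Prime] (P : Sylow p G) (hP : Nat.card P = p)
  [Fintype (Subgroup.normalizer ((P : Subgroup G) : Set G))]
  [Fintype (Subgroup.centralizer ((P : Subgroup G) : Set G))]

local notation "ψ" => ZMod.stdAddChar
local notation "C" => Subgroup.centralizer ((P : Subgroup G) : Set G)
local notation "N" => Subgroup.normalizer ((P : Subgroup G) : Set G)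

include hP in
/-- An element inverting `P`. -/
theorem exists_inverter (hp2 : p ≠ 2) (hZ : ∀ y : C, ¬ p ∣ orderOf y → (y : G) ∈ Subgroup.center G)
    (hrel : (C).relIndex N = 2) :
    ∃ τ : G, (∀ a : ZMod p, τ * pw P hP a * τ⁻¹ = pw P hP (-a)) ∧ τ * τ ∈ Subgroup.center G ∧
      ¬ p ∣ orderOf τ := by
  have : NeZero p := ⟨hp.out.ne_zero⟩
  obtain ⟨w, hwN, hwC⟩ : ∃ w ∈ N, w ∉ C := by
    by_contra h
    push Not at h
    exact absurd ((Subgroup.relIndex_eq_one.mpr h).symm.trans hrel) (by norm_num)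
  set τ : N := ⟨w, hwN⟩ with hτ
  have hu2 : rho P hP τ * rho P hP τ = 1 := by
    have h := pow_card_eq_one' (x := (⟨rhoU P hP τ, τ, rfl⟩ : (rhoU P hP).range))
    rw [card_range_rhoU, hrel, pow_two] at h
    exact congrArg (fun u : (rhoU P hP).range => ((u : (ZMod p)ˣ) : ZMod p)) h
  have hu : rho P hP τ = -1 := (mul_self_eq_one_iff.mp hu2).resolve_left fun h =>
    hwC ((rho_eq_one_iff P hP τ).mp h)
  have hinv : ∀ a : ZMod p, w * pw P hP a * w⁻¹ = pw P hP (-a) := fun a => by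
    have h := conj_pw' P hP τ a
    rwa [hu, neg_one_mul] at h
  have hwwC : w * w ∈ C := (rho_eq_one_iff P hP (τ * τ)).mp (by rw [map_mul, hu2])
  obtain ⟨i, y, hy, hc⟩ := exists_split P hP ⟨w * w, hwwC⟩
  have hww : w * w = pw P hP i * (y : G) := congrArg Subtype.val hc
  have hyc := hZ y hy
  have hii : pw P hP i = pw P hP (-i) := by
    apply mul_right_cancel (b := (y : G))
    calc pw P hP i * (y : G) = w * (w * w) * w⁻¹ := by rw [← hww]; group
      _ = w * pw P hP i * ((y : G) * w⁻¹) := by rw [hww]; group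
      _ = w * pw P hP i * (w⁻¹ * (y : G)) := by rw [Subgroup.mem_center_iff.mp hyc w⁻¹]
      _ = pw P hP (-i) * (y : G) := by rw [← hinv i]; group
  have hi : i = 0 := by
    have h2 : (2 : ZMod p) * i = 0 := by
      have h := pw_injective P hP hii
      linear_combination h
    refine (mul_eq_zero.mp h2).resolve_left fun h => hp2 ?_
    exact (Nat.prime_dvd_prime_iff_eq hp.out Nat.prime_two).mp
      ((ZMod.natCast_eq_zero_iff 2 p).mp (by exact_mod_cast h))
  rw [hi, pw_zero, one_mul] at hww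
  refine ⟨w, hinv, hww ▸ hyc, fun hd => ?_⟩
  have h1 : orderOf w ∣ 2 * orderOf (y : G) := orderOf_dvd_of_pow_eq_one (by
    rw [pow_mul, pow_two, hww, pow_orderOf_eq_one])
  rcases hp.out.dvd_mul.mp (hd.trans h1) with h | h
  · exact hp2 ((Nat.prime_dvd_prime_iff_eq hp.out Nat.prime_two).mp h)
  · exact hy (by rwa [Subgroup.orderOf_coe] at h)

/-- The translates of an inverting element are conjugate. -/
theorem conj_translate (hp2 : p ≠ 2) {τ : G} (hinv : ∀ a : ZMod p, τ * pw P hP a * τ⁻¹ = pw P hP (-a))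
    (i : ZMod p) : ∃ c : G, c * τ * c⁻¹ = τ * pw P hP i := by
  have h2 : (2 : ZMod p) ≠ 0 := fun h => hp2 ((Nat.prime_dvd_prime_iff_eq hp.out Nat.prime_two).mp
      ((ZMod.natCast_eq_zero_iff 2 p).mp (by exact_mod_cast h)))
  set s : ZMod p := i / 2
  refine ⟨pw P hP (-s), ?_⟩
  have hinvs : (pw P hP (-s))⁻¹ = pw P hP s :=
    inv_eq_of_mul_eq_one_right (by rw [← pw_add, neg_add_cancel, pw_zero])
  rw [hinvs, ← hinv s, inv_mul_cancel_right, mul_assoc, ← pw_add]
  congr 2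
  simp only [s]
  field_simp
  ring

include hP in
/-- The value at an inverting element is bounded by the multiplicity of the trivial character. -/
theorem value_bound (hp2 : p ≠ 2) {τ : G} (hinv : ∀ a : ZMod p, τ * pw P hP a * τ⁻¹ = pw P hP (-a))
    {χ : G → ℂ} (hχ : IsCharacter G χ) :
    ∃ m : ℕ, ∑ i : ZMod p, χ (pw P hP i) = (p : ℂ) * m ∧ ‖χ τ‖ ≤ m ∧ (m = 1 → ‖χ τ‖ = 1) := by
  classical
  have : NeZero p := ⟨hp.out.ne_zero⟩
  have hp0 : (p : ℂ) ≠ 0 := Nat.cast_ne_zero.mpr hp.out.ne_zero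
  have hclass := CfsgLib.Char.isClassFunction_of_isCharacter hχ
  obtain ⟨d, ρ, rfl⟩ := hχ
  set E : Module.End ℂ (Fin d → ℂ) := ∑ i : ZMod p, ρ (pw P hP i) with hE
  have hlE : ∀ a : ZMod p, ρ (pw P hP a) * E = E := fun a => by
    rw [hE, Finset.mul_sum]
    refine Fintype.sum_equiv (Equiv.addLeft a) _ _ fun i => ?_
    rw [Equiv.coe_addLeft, pw_add, map_mul]
  have hEE : E * E = (p : ℂ) • E := by
    calc E * E = ∑ a : ZMod p, ρ (pw P hP a) * E := by
          conv_lhs => arg 1; rw [hE]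
          rw [Finset.sum_mul]
      _ = ∑ _a : ZMod p, E := Finset.sum_congr rfl fun a _ => hlE a
      _ = _ := by rw [Finset.sum_const, Finset.card_univ, ZMod.card, ← Nat.cast_smul_eq_nsmul ℂ]
  set f : Module.End ℂ (Fin d → ℂ) := (p : ℂ)⁻¹ • E with hf
  have hff : f * f = f := by
    rw [hf, smul_mul_assoc, mul_smul_comm, hEE, smul_smul, smul_smul]
    congr 1
    field_simp
  have hcomm : Commute (ρ τ) f := by
    have h : ρ τ * E = E * ρ τ := by
      rw [hE, Finset.mul_sum, Finset.sum_mul]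
      refine Fintype.sum_equiv (Equiv.neg _) _ _ fun i => ?_
      rw [Equiv.neg_apply, ← map_mul, ← map_mul, ← hinv i, inv_mul_cancel_right]
    show ρ τ * f = f * ρ τ
    rw [hf, mul_smul_comm, smul_mul_assoc, h]
  set W : Submodule ℂ (Fin d → ℂ) := LinearMap.range f with hW
  have hproj : LinearMap.IsProj W f := ⟨fun v => LinearMap.mem_range_self f v, fun v hv => by
    obtain ⟨u, rfl⟩ := hv
    exact LinearMap.congr_fun hff u⟩
  have hinvt : ∀ (g : Subgroup.zpowers τ), ∀ v ∈ W, ρ (g : G) v ∈ W := by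
    intro g v hv
    obtain ⟨k, hk⟩ := (isOfFinOrder_of_finite τ).mem_powers_iff_mem_zpowers.mpr g.2
    obtain ⟨u, rfl⟩ := hv
    refine ⟨ρ (g : G) u, ?_⟩
    have h := LinearMap.congr_fun (hcomm.pow_left k).eq u
    rw [← map_pow, show τ ^ k = (g : G) from hk] at h
    exact h.symm
  let σ : Representation ℂ (Subgroup.zpowers τ) W :=
    { toFun := fun g => (ρ (g : G)).restrict (hinvt g)
      map_one' := LinearMap.ext fun v => Subtype.ext (by simp [LinearMap.restrict_apply])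
      map_mul' := fun g h => LinearMap.ext fun v => Subtype.ext (by simp [LinearMap.restrict_apply]) }
  set g₀ : Subgroup.zpowers τ := ⟨τ, Subgroup.mem_zpowers τ⟩
  have hmem : ∀ v, (ρ τ * f) v ∈ W := fun v => hinvt g₀ _ (LinearMap.mem_range_self f v)
  have hσ : σ.character g₀ = LinearMap.trace ℂ _ (ρ τ * f) := by
    rw [← LinearMap.trace_restrict_eq_of_forall_mem W _ hmem]
    refine congrArg _ (LinearMap.ext fun v => Subtype.ext ?_)
    show ρ τ (v : Fin d → ℂ) = ρ τ (f (v : Fin d → ℂ))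
    rw [hproj.map_id _ v.2]
  have htr : LinearMap.trace ℂ _ (ρ τ * f) = ρ.character τ := by
    rw [hf, mul_smul_comm, map_smul, hE, Finset.mul_sum, map_sum, smul_eq_mul, inv_mul_eq_iff_eq_mul₀ hp0,
      Finset.sum_congr rfl fun i _ => show LinearMap.trace ℂ _ (ρ τ * ρ (pw P hP i)) = ρ.character τ by
        obtain ⟨c, hc⟩ := conj_translate P hP hp2 hinv i
        rw [← map_mul, ← hc]
        exact hclass τ c,
      Finset.sum_const, Finset.card_univ, ZMod.card, nsmul_eq_mul]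
  refine ⟨Module.finrank ℂ W, ?_, ?_, fun hm => ?_⟩
  · have h := LinearMap.IsProj.trace hproj
    rw [hf, map_smul, smul_eq_mul, inv_mul_eq_iff_eq_mul₀ hp0, hE, map_sum] at h
    exact h
  · rw [← htr, ← hσ]
    exact CfsgLib.Char.norm_character_le σ g₀
  · rw [← htr, ← hσ]
    have h := (CfsgLib.Char.norm_character_eq_iff σ g₀).mpr (by
      obtain ⟨v, hv0, hv⟩ := finrank_eq_one_iff'.mp hm
      obtain ⟨ω, hω⟩ := hv (σ g₀ v)
      refine ⟨ω, LinearMap.ext fun u => ?_⟩
      obtain ⟨r, rfl⟩ := hv u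
      rw [map_smul, ← hω, LinearMap.smul_apply, LinearMap.id_apply, smul_comm])
    rw [h, hm, Nat.cast_one]

section theta

variable {θ : IrrCharacter (Subgroup.centralizer ((P : Subgroup G) : Set G))}
  (hθP : ∀ x : (Subgroup.centralizer ((P : Subgroup G) : Set G)), (x : G) ∈ (P : Subgroup G) → (θ : (Subgroup.centralizer ((P : Subgroup G) : Set G)) → ℂ) x = (θ : (Subgroup.centralizer ((P : Subgroup G) : Set G)) → ℂ) 1)
  (hZ : ∀ y : (Subgroup.centralizer ((P : Subgroup G) : Set G)), ¬ p ∣ orderOf y → (y : G) ∈ Subgroup.center G)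

include hP hθP hZ in
theorem thn_eq_self (w : N) : thn P θ w = θ := by
  refine Subtype.ext (funext fun c => ?_)
  obtain ⟨i, y, hy, rfl⟩ := exists_split P hP c
  rw [thn_apply, show cjC P w (pwC P hP i * y) = pwC P hP (rho P hP w * i) * y from Subtype.ext (by
    simp only [coe_cjC, Subgroup.coe_mul, coe_pwC]
    rw [← conj_pw' P hP w i, mul_assoc (w : G), mul_assoc (w : G), mul_assoc (pw P hP i),
      ← Subgroup.mem_center_iff.mp (hZ y hy) (w : G)⁻¹]
    group), theta_mul P hP hθP, theta_mul P hP hθP]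

include hP hθP hZ in
theorem conjs_eq_singleton : conjs P θ = {θ} := by
  ext φ
  simp only [mem_conjs, thn_eq_self P hP hθP hZ, Finset.mem_singleton]
  exact ⟨fun ⟨_, h⟩ => h.symm, fun h => ⟨1, h.symm⟩⟩

include hθP hZ in
theorem eset_eq (hp2 : p ≠ 2) (hrel : (C).relIndex N = 2) (u : ZMod p) :
    u ∈ Eset P hP θ ↔ u = 1 ∨ u = -1 := by
  classical
  have hcard : (Eset P hP θ).card = 2 := by
    have h := card_conjs_mul P hP θ
    rw [conjs_eq_singleton P hP hθP hZ, Finset.card_singleton, one_mul] at h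
    exact h.trans hrel
  have hmem : ∀ v ∈ Eset P hP θ, v = 1 ∨ v = -1 := by
    intro v hv
    rw [← mul_self_eq_one_iff]
    by_contra hne
    have h3 : ({1, v, v * v} : Finset (ZMod p)) ⊆ Eset P hP θ := by
      simp [Finset.insert_subset_iff, hv, one_mem_Eset P hP θ, mul_mem_Eset P hP θ hv hv]
    have h1 : (1 : ZMod p) ≠ v := fun h => hne (by rw [← h, one_mul])
    have h2 : v ≠ v * v := fun h => h1 (mul_left_cancel₀ (ne_zero_of_mem P hP θ hv) ((mul_one v).trans h))
    have := Finset.card_le_card h3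
    rw [Finset.card_insert_of_notMem (by simp [h1, Ne.symm hne]), Finset.card_pair h2, hcard] at this
    omega
  refine ⟨hmem u, fun h => ?_⟩
  rcases h with rfl | rfl
  · exact one_mem_Eset P hP θ
  · by_contra hne
    have : Eset P hP θ ⊆ {1} := fun v hv => Finset.mem_singleton.mpr
      ((hmem v hv).resolve_right fun h => hne (h ▸ hv))
    have := Finset.card_le_card this
    rw [hcard, Finset.card_singleton] at this
    omega

variable {M : Ideal AlgInt} [M.IsMaximal] {B : Set (IrrCharacter G)}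
  {b : Set (IrrCharacter (Subgroup.centralizer ((P : Subgroup G) : Set G)))}
  {Y : Set (IrrCharacter G)} {s : IrrCharacter G → ℤ} {σ : ℤ}

include hθP hZ in
/-- The values of a member on `p`-singular elements. -/
theorem value_of_mem (hM : IsPModular p M) (hBP : IsDefectGroup p M B P) (hind : IsInducedBlock M C b B)
    (hθ : θ ∈ b) {χ : IrrCharacter G} (hχ : χ ∈ B) {i : ZMod p} (hi : i ≠ 0) {y : C} (hy : ¬ p ∣ orderOf y) :
    (χ : G → ℂ) (pw P hP i * (y : G)) = coef P hP θ (χ : G → ℂ) i * (θ : C → ℂ) y := by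
  rw [value_conjs P hP θ hθP hM hBP hind hθ hχ hi hy, conjs_eq_singleton P hP hθP hZ, Finset.sum_singleton]

include hθP in
theorem coef_X (hS : Shape P hP θ B Y s σ) {χ : IrrCharacter G} (hχ : χ ∈ B) (hχY : χ ∉ Y) {i : ZMod p}
    (hi : i ≠ 0) : coef P hP θ (χ : G → ℂ) i = -(s χ : ℂ) := by
  classical
  have h := sum_stdAddChar (p := p) i
  rw [if_neg hi, ← Finset.add_sum_erase _ _ (Finset.mem_univ (0 : ZMod p)), zero_mul,
    AddChar.map_zero_eq_one] at h
  rw [coef_eq_sum_rowC P hP θ _ hi, ← Finset.add_sum_erase _ _ (Finset.mem_univ (0 : ZMod p)), row_zero, zero_mul,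
    zero_add, Finset.sum_congr rfl fun j hj => by
      rw [← coe_row P hP θ hθP, hS.row_X χ hχ hχY j (Finset.mem_erase.mp hj).1], ← Finset.mul_sum,
    show ∑ j ∈ Finset.univ.erase (0 : ZMod p), (ψ (j * i) : ℂ) = -1 by linear_combination h]
  ring

include hθP hZ in
theorem coef_Y (hp2 : p ≠ 2) (hrel : (C).relIndex N = 2) (hS : Shape P hP θ B Y s σ) {η : IrrCharacter G}
    (hη : η ∈ Y) : ∃ i₀ : ZMod p, i₀ ≠ 0 ∧ ∀ i, i ≠ 0 →
      coef P hP θ (η : G → ℂ) i = (σ : ℂ) * (ψ (i₀ * i) + ψ (-(i₀ * i))) := by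
  classical
  obtain ⟨i₀, hi₀, hrow⟩ := hS.row_Y η hη
  refine ⟨i₀, hi₀, fun i hi => ?_⟩
  have hO : ∀ j, j ∈ eOrbit P hP θ i₀ ↔ j = i₀ ∨ j = -i₀ := fun j => by
    simp only [mem_eOrbit, eset_eq P hP hθP hZ hp2 hrel]
    exact ⟨fun ⟨u, hu, h⟩ => by rcases hu with rfl | rfl <;> simp [← h], fun h => by
      rcases h with rfl | rfl
      · exact ⟨1, Or.inl rfl, one_mul _⟩
      · exact ⟨-1, Or.inr rfl, neg_one_mul _⟩⟩
  have hne : i₀ ≠ -i₀ := fun h => hi₀ (by
    have h2 : (2 : ZMod p) * i₀ = 0 := by linear_combination h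
    exact (mul_eq_zero.mp h2).resolve_left fun h => hp2 ((Nat.prime_dvd_prime_iff_eq hp.out Nat.prime_two).mp
      ((ZMod.natCast_eq_zero_iff 2 p).mp (by exact_mod_cast h))))
  rw [coef_eq_sum_rowC P hP θ _ hi, ← Finset.sum_subset (Finset.subset_univ ({i₀, -i₀} : Finset (ZMod p)))]
  · rw [Finset.sum_pair hne, ← coe_row P hP θ hθP, ← coe_row P hP θ hθP, hrow i₀ hi₀,
      hrow (-i₀) (neg_ne_zero.mpr hi₀), if_pos ((hO i₀).mpr (Or.inl rfl)), if_pos ((hO (-i₀)).mpr (Or.inr rfl)),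
      neg_mul]
    ring
  · intro j _ hj
    by_cases hj0 : j = 0
    · rw [hj0, row_zero, zero_mul]
    · rw [← coe_row P hP θ hθP, hrow j hj0, if_neg, Int.cast_zero, zero_mul]
      rw [hO]
      simpa using hj

include hθP in
theorem sum_coef_Y (hS : Shape P hP θ B Y s σ) {i : ZMod p} (hi : i ≠ 0) [Fintype Y] :
    ∑ η : Y, coef P hP θ (η.1 : G → ℂ) i = -(σ : ℂ) := by
  classical
  have hrow : ∀ j, j ≠ 0 → ∑ η : Y, row P hP θ (η.1 : G → ℂ) j = σ := by
    intro j hj
    obtain ⟨η₀, hη₀, h₀⟩ := hS.surj j hj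
    rw [Finset.sum_eq_single (⟨η₀, hη₀⟩ : Y)]
    · exact h₀
    · intro η _ hne
      obtain ⟨a, ha, hra⟩ := hS.row_Y η.1 η.2
      obtain ⟨a', ha', hra'⟩ := hS.row_Y η₀ hη₀
      rw [hra j hj, if_neg]
      intro hja
      refine hne (Subtype.ext (hS.inj η.1 η.2 η₀ hη₀ fun k hk => ?_))
      have hja' : j ∈ eOrbit P hP θ a' := by
        by_contra hno
        rw [hra' j hj, if_neg hno] at h₀
        rcases hS.sign with h | h <;> omega
      rw [hra k hk, hra' k hk, ← eOrbit_eq P hP θ hja, eOrbit_eq P hP θ hja']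
    · simp
  have h := sum_stdAddChar (p := p) i
  rw [if_neg hi, ← Finset.add_sum_erase _ _ (Finset.mem_univ (0 : ZMod p)), zero_mul,
    AddChar.map_zero_eq_one] at h
  rw [Finset.sum_congr rfl fun (η : Y) _ => coef_eq_sum_rowC P hP θ _ hi, Finset.sum_comm,
    ← Finset.add_sum_erase _ _ (Finset.mem_univ (0 : ZMod p)),
    Finset.sum_eq_zero (fun (η : Y) _ => by rw [row_zero, zero_mul]), zero_add,
    Finset.sum_congr rfl fun j hj => by
      rw [← Finset.sum_mul, Finset.sum_congr rfl fun (η : Y) _ => (coe_row P hP θ hθP η.1 j).symm, ← Int.cast_sum,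
        hrow j (Finset.mem_erase.mp hj).1], ← Finset.mul_sum,
    show ∑ j ∈ Finset.univ.erase (0 : ZMod p), (ψ (j * i) : ℂ) = -1 by linear_combination h]
  ring

/-- The weighted sum over the characters carrying `θ` on the sections of `P`. -/
def blockSum (θ : IrrCharacter (Subgroup.centralizer ((P : Subgroup G) : Set G))) (τ : G) : ℂ :=
  ∑ χ : IrrCharacter G, (Complex.normSq ((χ : G → ℂ) τ) : ℂ) * conj (coef P hP θ (χ : G → ℂ) 1) / (χ : G → ℂ) 1

include hθP hZ in
/-- The two members outside the family, and the value of the block sum. -/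
theorem pair_data (hrel : (C).relIndex N = 2) (hM : IsPModular p M)
    (hind : IsInducedBlock M C b B) (hθ : θ ∈ b) (hS : Shape P hP θ B Y s σ) {X₁ : IrrCharacter G}
    (hX₁ : X₁ ∈ B) (hX₁Y : X₁ ∉ Y) {η₀ : IrrCharacter G} (hη₀ : η₀ ∈ Y) :
    ∃ X₂ : IrrCharacter G, X₂ ∈ B ∧ X₂ ∉ Y ∧
      (∀ g : G, ¬ p ∣ orderOf g → (s X₁ : ℂ) * (X₁ : G → ℂ) g + (s X₂ : ℂ) * (X₂ : G → ℂ) g +
        (σ : ℂ) * (η₀ : G → ℂ) g = 0) ∧
      ∀ τ : G, ¬ p ∣ orderOf τ → blockSum P hP θ τ =
        -(s X₁ : ℂ) * Complex.normSq ((X₁ : G → ℂ) τ) / (X₁ : G → ℂ) 1 -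
        (s X₂ : ℂ) * Complex.normSq ((X₂ : G → ℂ) τ) / (X₂ : G → ℂ) 1 -
        (σ : ℂ) * Complex.normSq ((η₀ : G → ℂ) τ) / (η₀ : G → ℂ) 1 := by
  classical
  have hE : (Eset P hP θ).card = 2 := by
    have h := card_conjs_mul P hP θ
    rw [conjs_eq_singleton P hP hθP hZ, Finset.card_singleton, one_mul] at h
    exact h.trans hrel
  have hXc : (B \ Y).ncard = 2 := by
    have h1 := hS.card_eq
    have h2 := hS.card_Y
    rw [Nat.card_coe_set_eq, hE] at h1 h2
    rw [Set.ncard_sdiff hS.le (Set.toFinite Y)]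
    omega
  obtain ⟨X₂, hne, hpair⟩ : ∃ X₂, X₁ ≠ X₂ ∧ B \ Y = {X₁, X₂} := by
    obtain ⟨a, c, hac, heq⟩ := Set.ncard_eq_two.mp hXc
    have h1 : X₁ ∈ B \ Y := ⟨hX₁, hX₁Y⟩
    rw [heq] at h1
    rcases h1 with rfl | h1
    · exact ⟨c, hac, heq⟩
    · rw [Set.mem_singleton_iff] at h1
      subst h1
      exact ⟨a, hac.symm, heq.trans (Set.pair_comm _ _)⟩
  have hX₂ : X₂ ∈ B \ Y := hpair ▸ Set.mem_insert_of_mem _ (Set.mem_singleton _)
  have hrel' : ∀ η ∈ Y, ∀ g : G, ¬ p ∣ orderOf g → (s X₁ : ℂ) * (X₁ : G → ℂ) g + (s X₂ : ℂ) * (X₂ : G → ℂ) g +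
      (σ : ℂ) * (η : G → ℂ) g = 0 := fun η hη g hg => by
    have h := hS.relation η hη g hg
    rwa [hpair, finsum_mem_pair hne] at h
  refine ⟨X₂, hX₂.1, hX₂.2, hrel' η₀ hη₀, fun τ hτ => ?_⟩
  have hσ0 : (σ : ℂ) ≠ 0 := by rcases hS.sign with h | h <;> simp [h]
  have hYsame : ∀ η ∈ Y, ∀ g : G, ¬ p ∣ orderOf g → (η : G → ℂ) g = (η₀ : G → ℂ) g := fun η hη g hg =>
    mul_left_cancel₀ hσ0 (add_left_cancel ((hrel' η hη g hg).trans (hrel' η₀ hη₀ g hg).symm))
  let _ := Fintype.ofFinite Y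
  have hcoefX : ∀ X ∈ B \ Y, conj (coef P hP θ (X : G → ℂ) 1) = -(s X : ℂ) := fun X hX => by
    rw [coef_X P hP hθP hS hX.1 hX.2 one_ne_zero, map_neg, map_intCast]
  have hout : ∀ χ ∉ B, coef P hP θ (χ : G → ℂ) 1 = 0 := fun χ hχ =>
    coef_eq_zero_of_notMem P hP hM hind hθ hχ one_ne_zero
  have huniv : (Finset.univ.filter fun χ : IrrCharacter G => χ ∈ B) =
      insert X₁ (insert X₂ (Finset.univ.filter fun χ : IrrCharacter G => χ ∈ Y)) := by
    ext χ
    simp only [Finset.mem_filter, Finset.mem_univ, true_and, Finset.mem_insert]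
    refine ⟨fun h => ?_, ?_⟩
    · by_cases hY : χ ∈ Y
      · exact Or.inr (Or.inr hY)
      · have : χ ∈ B \ Y := ⟨h, hY⟩
        rw [hpair] at this
        rcases this with h | h
        · exact Or.inl h
        · exact Or.inr (Or.inl h)
    · rintro (rfl | rfl | h)
      · exact hX₁
      · exact hX₂.1
      · exact hS.le h
  rw [blockSum, ← Finset.sum_subset (Finset.subset_univ (Finset.univ.filter fun χ : IrrCharacter G => χ ∈ B))
    fun χ _ hχ => by rw [hout χ (by simpa using hχ), map_zero, mul_zero, zero_div], huniv,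
    Finset.sum_insert (by simp [hne, hX₁Y]), Finset.sum_insert (by simp [hX₂.2]),
    hcoefX X₁ ⟨hX₁, hX₁Y⟩, hcoefX X₂ hX₂,
    Finset.sum_subtype _ (p := fun χ => χ ∈ Y) (by simp) (fun χ : IrrCharacter G =>
      (Complex.normSq ((χ : G → ℂ) τ) : ℂ) * conj (coef P hP θ (χ : G → ℂ) 1) / (χ : G → ℂ) 1),
    Finset.sum_congr rfl fun (η : Y) _ => by
      rw [hYsame η.1 η.2 τ hτ, hYsame η.1 η.2 1 (by rw [orderOf_one]; exact hp.out.not_dvd_one)],
    ← Finset.sum_div, ← Finset.mul_sum, ← map_sum, sum_coef_Y P hP hθP hS one_ne_zero, map_neg, map_intCast]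
  ring

end theta

include hP in
/-- **The block sums do not depend on the central character.** -/
theorem blockSum_eq (hp2 : p ≠ 2) (hZ : ∀ y : C, ¬ p ∣ orderOf y → (y : G) ∈ Subgroup.center G)
    {χ : IrrCharacter G} (hfaith : ∀ g : G, (χ : G → ℂ) g = (χ : G → ℂ) 1 → g = 1) {τ : G}
    (hinv : ∀ a : ZMod p, τ * pw P hP a * τ⁻¹ = pw P hP (-a)) (hτ2 : τ * τ ∈ Subgroup.center G)
    (hχτ : (χ : G → ℂ) τ ≠ 0) {θ θ' : IrrCharacter C} (hθ1 : (θ : C → ℂ) 1 = 1) (hθ'1 : (θ' : C → ℂ) 1 = 1) :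
    blockSum P hP θ τ = blockSum P hP θ' τ := by
  classical
  have : NeZero p := ⟨hp.out.ne_zero⟩
  have hp0 : (p : ℂ) ≠ 0 := Nat.cast_ne_zero.mpr hp.out.ne_zero
  have hG := CfsgLib.Char.card_ne_zero' (G := G)
  set x := pw P hP 1 with hx
  have hzero : ∀ y : C, ¬ p ∣ orderOf y → y ≠ 1 →
      ∀ g : G, ¬ IsConj (g * τ * g⁻¹ * τ⁻¹) (x * (y : G)) := by
    intro y hy hy1 g hg
    have hyc := hZ y hy
    obtain ⟨h, hh⟩ := isConj_iff.mp hg
    set a := h * g * τ * (h * g)⁻¹ with ha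
    set c := h * τ * h⁻¹ with hc
    have hac : a = x * (y : G) * c := by rw [← hh, ha, hc]; group
    have hsq : ∀ k : G, k * τ * k⁻¹ * (k * τ * k⁻¹) = τ * τ := fun k => by
      calc k * τ * k⁻¹ * (k * τ * k⁻¹) = k * (τ * τ) * k⁻¹ := by group
        _ = τ * τ := by rw [Subgroup.mem_center_iff.mp hτ2 k, mul_inv_cancel_right]
    have h1 : x * (y : G) * c * (x * (y : G) * c) = c * c := by
      rw [← hac, ha, hc, hsq, hsq]
    have h2 : c * (x * (y : G)) * c⁻¹ = (x * (y : G))⁻¹ := by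
      calc c * (x * (y : G)) * c⁻¹ =
          (x * (y : G))⁻¹ * (x * (y : G) * c * (x * (y : G) * c)) * c⁻¹ * c⁻¹ := by group
        _ = _ := by rw [h1]; group
    set m := orderOf (y : G) with hm
    have hmp : ((m : ℕ) : ZMod p) ≠ 0 := fun h0 => hy (by
      rw [← Subgroup.orderOf_coe]; exact (ZMod.natCast_eq_zero_iff _ p).mp h0)
    have hxm : (x * (y : G)) ^ m = pw P hP m := by
      rw [(show Commute x (y : G) from Subgroup.mem_center_iff.mp hyc x).mul_pow, pow_orderOf_eq_one, mul_one,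
        hx, pw_pow, mul_one]
    have h3 : c * pw P hP m * c⁻¹ = (pw P hP m)⁻¹ := by
      rw [← hxm, ← inv_pow, ← h2, conj_pow]
    have hcinv : ∀ t : ZMod p, c * pw P hP t * c⁻¹ = pw P hP (-t) := by
      intro t
      have ht : pw P hP t = pw P hP m ^ (t / m).val := by
        rw [pw_pow, ZMod.natCast_zmod_val, div_mul_cancel₀ _ hmp]
      rw [ht, ← conj_pow, h3, inv_pow, ← ht]
      exact inv_eq_of_mul_eq_one_right (by rw [← pw_add, add_neg_cancel, pw_zero])
    obtain ⟨u, hu⟩ := conj_translate P hP hp2 hcinv (-1)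
    have hxc : c * pw P hP (-1) = x * c := by
      have h4 := hcinv (-1)
      rw [neg_neg] at h4
      rw [hx, ← h4, inv_mul_cancel_right]
    rw [hxc] at hu
    have ha' : a = (y : G) * (u * c * u⁻¹) := by
      rw [hu, hac, ← mul_assoc (y : G), Subgroup.mem_center_iff.mp hyc x]
    have hcl := CfsgLib.Char.isClassFunction_of_isIrr χ.2
    have hval : (χ : G → ℂ) a = centScal χ (y : G) * (χ : G → ℂ) τ := by
      rw [ha', char_central_mul χ hyc, hcl c u, hc, hcl τ h]
    rw [ha, hcl τ (h * g)] at hval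
    have hs1 : centScal χ (y : G) = 1 := mul_right_cancel₀ hχτ (by rw [one_mul]; exact hval.symm)
    rw [centScal, div_eq_one_iff_eq (CfsgLib.Char.irr_one_ne_zero χ.2)] at hs1
    exact hy1 (Subtype.ext (hfaith _ hs1))
  set K : ℂ := ∑ χ : IrrCharacter G, (χ : G → ℂ) τ * (χ : G → ℂ) τ⁻¹ * conj ((χ : G → ℂ) x) / (χ : G → ℂ) 1
  suffices ∀ φ : IrrCharacter C, (φ : C → ℂ) 1 = 1 → blockSum P hP φ τ = (p : ℂ) / (Nat.card C : ℂ) * K by
    rw [this θ hθ1, this θ' hθ'1]
  intro φ hφ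
  have hterm : ∀ y : C, ¬ p ∣ orderOf y →
      ∑ χ : IrrCharacter G, (χ : G → ℂ) τ * (χ : G → ℂ) τ⁻¹ * conj ((χ : G → ℂ) (x * (y : G))) / (χ : G → ℂ) 1 =
        if y = 1 then K else 0 := by
    intro y hy
    split_ifs with h
    · subst h
      simp only [OneMemClass.coe_one, mul_one]
      rfl
    · exact CfsgLib.CharBlocks.sum_eq_zero_of_not_isConj (hzero y hy h)
  calc blockSum P hP φ τ
      = (p : ℂ) / (Nat.card C : ℂ) * ∑ y : C, (if p ∣ orderOf y then 0 else (φ : C → ℂ) y *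
          ∑ χ : IrrCharacter G, (χ : G → ℂ) τ * (χ : G → ℂ) τ⁻¹ * conj ((χ : G → ℂ) (x * (y : G))) /
            (χ : G → ℂ) 1) := by
        simp only [blockSum, coef, map_mul, map_div₀, map_natCast, map_sum]
        simp only [Finset.mul_sum, Finset.sum_div]
        rw [Finset.sum_comm]
        refine Finset.sum_congr rfl fun y _ => ?_
        by_cases hy : p ∣ orderOf y
        · simp [if_pos hy]
        · simp only [if_neg hy]
          rw [Finset.mul_sum]
          refine Finset.sum_congr rfl fun χ _ => ?_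
          rw [map_mul, Complex.conj_conj, CfsgLib.Char.char_inv (CfsgLib.Char.isCharacter_of_isIrr χ.2),
            ← Complex.mul_conj]
          ring
    _ = (p : ℂ) / (Nat.card C : ℂ) * K := by
        congr 1
        rw [Finset.sum_eq_single (1 : C)]
        · have h1 : ¬ p ∣ orderOf (1 : C) := by rw [orderOf_one]; exact hp.out.not_dvd_one
          rw [if_neg h1, hφ, one_mul, hterm 1 h1, if_pos rfl]
        · intro y _ hy1
          split_ifs with hy
          · rfl
          · rw [hterm y hy, if_neg hy1, mul_zero]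
        · simp

end CfsgLib.PrimeDegreeTwo.Faithful
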