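import Cfsg.Agent.Lib.PrimeDegreeTwo.Faithful.Arith
import Cfsg.Agent.Lib.Blocks.PrimeCount
import Cfsg.Agent.Lib.Invol.ZStarBasic

/-!
# The centraliser of a Sylow subgroup of order `p` under a faithful character of degree `p - 2`

If `|P| = p > 5`, `P` is not normal and `χ` is faithful irreducible of degree `p - 2`, then
`C(P) = P × Z(G)`, `|N(P) : C(P)| = 2`, and `χ` has the row `-1` on one orbit of its block.
-/

set_option autoImplicit false
set_option maxHeartbeats 1600000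

noncomputable section

namespace CfsgLib.PrimeDegreeTwo.Faithful

open Cfsg CfsgLib.Blocks CfsgLib.Blocks.PrimeSylow CfsgLib.Blocks.PrimeLocal CfsgLib.Blocks.PrimeBlock
open scoped ComplexConjugate

variable {G : Type*} [Group G] [Fintype G]

local notation "ψ" => ZMod.stdAddChar

/-- An element at which a faithful character has the norm of its degree is central. -/
theorem mem_center_of_norm {χ : G → ℂ} (hχ : IsCharacter G χ) (hfaith : ∀ g : G, χ g = χ 1 → g = 1)
    {g : G} {d : ℕ} (hd : χ 1 = d) (h : ‖χ g‖ = (d : ℝ)) : g ∈ Subgroup.center G := by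
  obtain ⟨n, ρ, rfl⟩ := hχ
  rw [Representation.char_one] at hd
  obtain ⟨ω, hω⟩ := (CfsgLib.Char.norm_character_eq_iff ρ g).mp (by
    rw [h]; exact_mod_cast congrArg Complex.re hd.symm)
  refine Subgroup.mem_center_iff.mpr fun z => ?_
  have hc : ρ (z * g) = ρ (g * z) := by
    rw [map_mul, map_mul, hω, mul_smul_comm, smul_mul_assoc]
    rfl
  have h1 : z * g * (g * z)⁻¹ = 1 := by
    refine hfaith _ ?_
    rw [Representation.char_one]
    refine (CfsgLib.Char.character_eq_degree_iff ρ _).mpr ?_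
    rw [map_mul, hc, ← map_mul, mul_inv_cancel, map_one]
    rfl
  exact mul_inv_eq_one.mp h1

variable {p : ℕ} [hp : Fact p.Prime] (P : Sylow p G) (hP : Nat.card P = p)
  [Fintype (Subgroup.normalizer ((P : Subgroup G) : Set G))]
  [Fintype (Subgroup.centralizer ((P : Subgroup G) : Set G))]

local notation "C" => Subgroup.centralizer ((P : Subgroup G) : Set G)
local notation "N" => Subgroup.normalizer ((P : Subgroup G) : Set G)

/-- The multiplicities: the Fourier transform of the coefficients, and the reduced row. -/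
theorem exists_mult_shift {θ : IrrCharacter C}
    (hθP : ∀ x : C, (x : G) ∈ (P : Subgroup G) → (θ : C → ℂ) x = (θ : C → ℂ) 1) (χ : IrrCharacter G) :
    ∃ n : ZMod p → ℕ, (∀ i, coef P hP θ (χ : G → ℂ) i = ∑ j : ZMod p, (n j : ℂ) * ψ (j * i)) ∧
      ∀ j, (n j : ℤ) = n 0 + row P hP θ (χ : G → ℂ) j := by
  have hp0 : (p : ℂ) ≠ 0 := Nat.cast_ne_zero.mpr hp.out.ne_zero
  obtain ⟨n, hn⟩ := exists_mult P hP hθP (CfsgLib.Char.isCharacter_of_isIrr χ.2)
  refine ⟨n, fun i => mul_left_cancel₀ hp0 ?_, fun j => Int.cast_injective (α := ℂ) ?_⟩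
  · symm
    calc (p : ℂ) * ∑ j : ZMod p, (n j : ℂ) * ψ (j * i)
        = ∑ j : ZMod p, ∑ l : ZMod p, coef P hP θ (χ : G → ℂ) l * ψ (j * (i - l)) := by
          rw [Finset.mul_sum]
          refine Finset.sum_congr rfl fun j _ => ?_
          rw [← mul_assoc, hn j, Finset.sum_mul]
          refine Finset.sum_congr rfl fun l _ => ?_
          rw [show j * (i - l) = -(j * l) + j * i by ring, AddChar.map_add_eq_mul]
          ring
      _ = ∑ l : ZMod p, coef P hP θ (χ : G → ℂ) l * if i - l = 0 then (p : ℂ) else 0 := by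
          rw [Finset.sum_comm]
          refine Finset.sum_congr rfl fun l _ => ?_
          rw [← Finset.mul_sum, sum_stdAddChar]
      _ = _ := by
          simp only [sub_eq_zero, mul_ite, mul_zero, Finset.sum_ite_eq, Finset.mem_univ, if_true]
          ring
  · push_cast
    rw [coe_row P hP θ hθP χ j, rowC, ← sub_eq_iff_eq_add', eq_inv_mul_iff_mul_eq₀ hp0, mul_sub, hn, hn,
      ← Finset.sum_sub_distrib]
    refine Finset.sum_congr rfl fun l _ => ?_
    rw [zero_mul, neg_zero, AddChar.map_zero_eq_one, sub_mul]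

/-- A vanishing coefficient gives a vanishing row. -/
theorem row_eq_zero_of_coef {θ : IrrCharacter C}
    (hθP : ∀ x : C, (x : G) ∈ (P : Subgroup G) → (θ : C → ℂ) x = (θ : C → ℂ) 1) (χ : IrrCharacter G)
    (h : ∀ i : ZMod p, i ≠ 0 → coef P hP θ (χ : G → ℂ) i = 0) (j : ZMod p) :
    row P hP θ (χ : G → ℂ) j = 0 := by
  refine Int.cast_injective (α := ℂ) ?_
  rw [coe_row P hP θ hθP χ j, rowC, Int.cast_zero, Finset.sum_eq_zero fun i _ => ?_, mul_zero]
  by_cases hi : i = 0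
  · subst hi; simp
  · rw [h i hi, mul_zero]

/-- The rows of the conjugates. -/
theorem row_thn {θ : IrrCharacter C}
    (hθP : ∀ x : C, (x : G) ∈ (P : Subgroup G) → (θ : C → ℂ) x = (θ : C → ℂ) 1) (χ : IrrCharacter G)
    (w : N) (j : ZMod p) :
    row P hP (thn P θ w) (χ : G → ℂ) j = row P hP θ (χ : G → ℂ) ((rho P hP w)⁻¹ * j) := by
  refine Int.cast_injective (α := ℂ) ?_
  rw [coe_row P hP _ (thn_trivial P hθP w) χ, coe_row P hP θ hθP χ, rowC, rowC]
  congr 1
  refine Fintype.sum_equiv (Equiv.mulLeft₀ (rho P hP w) (rho_ne_zero P hP w)) _ _ fun i => ?_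
  rw [Equiv.mulLeft₀_apply, coef_thn P hP (CfsgLib.Char.isClassFunction_of_isIrr χ.2) θ w i]
  congr 3
  have h0 := rho_ne_zero P hP w
  field_simp

include hP in
/-- **Local structure.** -/
theorem faithful_local (hp5 : 5 < p) (hnn : ¬ (P : Subgroup G).Normal) (χ : IrrCharacter G)
    (hfaith : ∀ g : G, (χ : G → ℂ) g = (χ : G → ℂ) 1 → g = 1) (hdeg : (χ : G → ℂ) 1 = ((p - 2 : ℕ) : ℂ)) :
    ∃ θ : IrrCharacter C, (∀ x : C, (x : G) ∈ (P : Subgroup G) → (θ : C → ℂ) x = (θ : C → ℂ) 1) ∧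
      (θ : C → ℂ) 1 = 1 ∧ (∀ y : C, ¬ p ∣ orderOf y → (y : G) ∈ Subgroup.center G) ∧
      (∀ y : C, ¬ p ∣ orderOf y → (χ : G → ℂ) (y : G) = ((p - 2 : ℕ) : ℂ) * (θ : C → ℂ) y) ∧
      (C).relIndex N = 2 ∧
      ∃ i j : ZMod p, i ≠ 0 ∧ j ≠ 0 ∧ row P hP θ (χ : G → ℂ) i = -1 ∧ row P hP θ (χ : G → ℂ) j = 0 := by
  classical
  have hpp : p.Prime := hp.out
  haveI : NeZero p := ⟨hpp.ne_zero⟩
  have hcl := CfsgLib.Char.isClassFunction_of_isIrr χ.2
  have hcd : charDegree (χ : G → ℂ) = p - 2 := by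
    have h := CfsgLib.CharBlocks.coe_charDegree_irr χ
    rw [hdeg] at h
    exact_mod_cast h
  obtain ⟨M, hM⟩ := CfsgLib.Invol.exists_isPModular p hpp
  haveI := hM.2.1
  set B := blockOf M (χ : G → ℂ) with hBdef
  have hB : IsPBlock M B := isPBlock_blockOf χ
  have hχB : χ ∈ B := mem_blockOf_self χ
  have hnd : ¬ p ∣ charDegree (χ : G → ℂ) := fun h => by
    have := Nat.le_of_dvd (by rw [hcd]; omega) h
    omega
  have hBP := isDefectGroup_of_pos P hP hM hB (blockDefect_pos_of_not_dvd P hP hnd)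
  obtain ⟨b, θ, hθ, hind, hθP⟩ := exists_local P hP hM hBP hB
  obtain ⟨Y, s, σ, hS⟩ := exists_shape P hP θ hθP hM hBP hind hθ
  set T : Finset (IrrCharacter C) := Finset.univ.filter fun φ =>
    ∀ x : C, (x : G) ∈ (P : Subgroup G) → (φ : C → ℂ) x = (φ : C → ℂ) 1 with hT
  have hmemT : ∀ φ, φ ∈ T ↔ ∀ x : C, (x : G) ∈ (P : Subgroup G) → (φ : C → ℂ) x = (φ : C → ℂ) 1 := fun φ => by
    simp [hT]
  have hN : ∀ φ : IrrCharacter C, ∃ n : ZMod p → ℕ, φ ∈ T →
      (∀ i, coef P hP φ (χ : G → ℂ) i = ∑ j : ZMod p, (n j : ℂ) * ψ (j * i)) ∧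
        ∀ j, (n j : ℤ) = n 0 + row P hP φ (χ : G → ℂ) j := fun φ => by
    by_cases h : φ ∈ T
    · obtain ⟨n, hn⟩ := exists_mult_shift P hP ((hmemT φ).mp h) χ
      exact ⟨n, fun _ => hn⟩
    · exact ⟨0, fun h' => absurd h' h⟩
  choose n hn using hN
  have hrowout : ∀ φ ∈ T, φ ∉ conjs P θ → ∀ j, row P hP φ (χ : G → ℂ) j = 0 := fun φ hφ hout =>
    row_eq_zero_of_coef P hP ((hmemT φ).mp hφ) χ fun i hi =>
      coef_eq_zero P hP hM hB hχB (fun h => hout ((mem_conjs P θ).mpr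
        (exists_thn P hP hθP hM hBP hind hθ ((hmemT φ).mp hφ) h))) hi
  have hval : ∀ (i : ZMod p) (y : C), ¬ p ∣ orderOf y → (χ : G → ℂ) (pw P hP i * (y : G)) =
      ∑ φ ∈ T, (∑ j : ZMod p, (n φ j : ℂ) * ψ (j * i)) * (φ : C → ℂ) y := fun i y hy => by
    rw [value_eq P hP hcl i hy, hT, Finset.sum_filter]
    refine Finset.sum_congr rfl fun φ _ => ?_
    split_ifs with h
    · rw [(hn φ ((hmemT φ).mpr h)).1]
    · rfl
  set f : IrrCharacter C → ℕ := fun φ => charDegree (φ : C → ℂ) with hf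
  have hf1 : ∀ φ : IrrCharacter C, (φ : C → ℂ) 1 = (f φ : ℂ) := fun φ =>
    (CfsgLib.CharBlocks.coe_charDegree_irr φ).symm
  have hfpos : ∀ φ : IrrCharacter C, 0 < f φ := fun φ => Nat.pos_of_ne_zero (charDegree_ne_zero φ)
  set m : ZMod p → ℕ := fun j => ∑ φ ∈ T, f φ * n φ j with hm
  have hone : ¬ p ∣ orderOf (1 : C) := by rw [orderOf_one]; exact hpp.not_dvd_one
  have hvalP : ∀ i : ZMod p, (χ : G → ℂ) (pw P hP i) = ∑ j : ZMod p, (m j : ℂ) * ψ (j * i) := fun i => by
    have h := hval i 1 hone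
    rw [OneMemClass.coe_one, mul_one] at h
    rw [h]
    simp only [hm, Nat.cast_sum, Nat.cast_mul, Finset.sum_mul]
    rw [Finset.sum_comm]
    refine Finset.sum_congr rfl fun j _ => Finset.sum_congr rfl fun φ _ => ?_
    rw [hf1]; ring
  have hmsum : ∑ j : ZMod p, m j = p - 2 := by
    have h := hvalP 0
    rw [pw_zero, hdeg] at h
    simp only [mul_zero, AddChar.map_zero_eq_one, mul_one] at h
    exact_mod_cast h.symm
  have hker : (∀ j, j ≠ 0 → m j = 0) → False := fun h0 => by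
    have h1 : ∀ i : ZMod p, (χ : G → ℂ) (pw P hP i) = (m 0 : ℂ) := fun i => by
      rw [hvalP i, Finset.sum_eq_single 0 (fun j _ hj => by rw [h0 j hj, Nat.cast_zero, zero_mul])
        (by simp), zero_mul, AddChar.map_zero_eq_one, mul_one]
    have h2 := h1 0
    rw [pw_zero] at h2
    exact one_ne_zero ((pw_eq_one_iff P hP).mp (hfaith _ ((h1 1).trans h2.symm)))
  have hconjT : ∀ φ ∈ conjs P θ, φ ∈ T := fun φ hφ => by
    obtain ⟨w, rfl⟩ := (mem_conjs P θ).mp hφ
    exact (hmemT _).mpr (thn_trivial P hθP w)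
  by_cases hχY : χ ∈ Y
  swap
  · exfalso
    have hsame : ∀ φ ∈ T, ∀ j, j ≠ 0 → n φ j = n φ 1 := by
      intro φ hφ j hj
      have h : row P hP φ (χ : G → ℂ) j = row P hP φ (χ : G → ℂ) 1 := by
        by_cases hout : φ ∈ conjs P θ
        · obtain ⟨w, rfl⟩ := (mem_conjs P θ).mp hout
          rw [row_thn P hP hθP, row_thn P hP hθP,
            hS.row_X χ hχB hχY _ (mul_ne_zero (inv_ne_zero (rho_ne_zero P hP w)) hj),
            hS.row_X χ hχB hχY _ (mul_ne_zero (inv_ne_zero (rho_ne_zero P hP w)) one_ne_zero)]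
        · rw [hrowout φ hφ hout, hrowout φ hφ hout]
      have h1 := (hn φ hφ).2 j
      rw [h, ← (hn φ hφ).2 1] at h1
      exact_mod_cast h1
    have hm1 : ∀ j, j ≠ 0 → m j = m 1 := fun j hj =>
      Finset.sum_congr rfl fun φ hφ => by rw [hsame φ hφ j hj]
    rw [← Finset.add_sum_erase _ _ (Finset.mem_univ (0 : ZMod p)),
      Finset.sum_congr rfl fun j hj => hm1 j (Finset.mem_erase.mp hj).1, Finset.sum_const,
      Finset.card_erase_of_mem (Finset.mem_univ _), Finset.card_univ, ZMod.card, smul_eq_mul] at hmsum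
    refine hker fun j hj => ?_
    rw [hm1 j hj]
    by_contra hne
    have : (p - 1) * 1 ≤ (p - 1) * m 1 := Nat.mul_le_mul_left _ (Nat.pos_of_ne_zero hne)
    omega
  obtain ⟨i₀, hi₀, hrow⟩ := hS.row_Y χ hχY
  set O := eOrbit P hP θ i₀ with hO
  have h0O : (0 : ZMod p) ∉ O := fun h => by
    obtain ⟨u, hu, hu'⟩ := (mem_eOrbit P hP θ).mp h
    exact mul_ne_zero (ne_zero_of_mem P hP θ hu) hi₀ hu'
  have hrowθ : ∀ j, row P hP θ (χ : G → ℂ) j = if j ∈ O then σ else 0 := fun j => by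
    by_cases hj : j = 0
    · rw [hj, row_eq_zero P hP θ hθP, if_neg h0O]
    · exact hrow j hj
  set E := (Eset P hP θ).card with hE
  set c := (conjs P θ).card with hc
  set e := (C).relIndex N with he
  have hce : c * E = e := card_conjs_mul P hP θ
  have hsumrow : ∀ φ ∈ conjs P θ, ∑ j : ZMod p, row P hP φ (χ : G → ℂ) j = (E : ℤ) * σ := fun φ hφ => by
    obtain ⟨w, rfl⟩ := (mem_conjs P θ).mp hφ
    rw [Fintype.sum_equiv (Equiv.mulLeft₀ (rho P hP w)⁻¹ (inv_ne_zero (rho_ne_zero P hP w))) _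
        (fun j => row P hP θ (χ : G → ℂ) j) fun j => row_thn P hP hθP χ w j,
      Finset.sum_congr rfl fun j _ => hrowθ j, ← Finset.sum_filter, Finset.filter_univ_mem, Finset.sum_const,
      card_eOrbit P hP θ hi₀, nsmul_eq_mul]
  have hfc : ∀ φ ∈ conjs P θ, f φ = f θ := fun φ hφ => by
    obtain ⟨w, rfl⟩ := (mem_conjs P θ).mp hφ
    have h := hf1 (thn P θ w)
    rw [thn_apply, map_one, hf1 θ] at h
    exact_mod_cast h.symm
  set A := ∑ φ ∈ T, f φ * n φ 0 with hA
  have hdegA : ((p - 2 : ℕ) : ℤ) = (p : ℤ) * A + (e : ℤ) * f θ * σ := by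
    rw [← hmsum, hm, hA]
    push_cast
    rw [Finset.sum_comm]
    simp only [← Finset.mul_sum]
    rw [Finset.sum_congr rfl fun φ hφ => by
      rw [Finset.sum_congr rfl fun j _ => (hn φ hφ).2 j, Finset.sum_add_distrib, Finset.sum_const,
        Finset.card_univ, ZMod.card, nsmul_eq_mul, mul_add, ← mul_assoc, mul_comm (f φ : ℤ) (p : ℤ), mul_assoc],
      Finset.sum_add_distrib, ← Finset.mul_sum]
    congr 1
    rw [← Finset.sum_subset (fun φ hφ => hconjT φ hφ) fun φ hφ hout => by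
      rw [Finset.sum_eq_zero fun j _ => hrowout φ hφ hout j, mul_zero]]
    rw [Finset.sum_congr rfl fun φ hφ => by rw [hsumrow φ hφ, hfc φ hφ], Finset.sum_const, ← hc,
      nsmul_eq_mul, ← hce]
    push_cast
    ring
  have hAm : m 0 = A := rfl
  have hefpos : 0 < e := by
    rw [← hce]
    exact Nat.mul_pos (Finset.card_pos.mpr ⟨θ, (mem_conjs P θ).mpr ⟨1, thn_one P θ⟩⟩) (card_Eset_pos P hP θ)
  have hed : e ∣ p - 1 := relIndex_dvd P hP
  have hθT : θ ∈ T := (hmemT θ).mpr hθP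
  have hθc : θ ∈ conjs P θ := (mem_conjs P θ).mpr ⟨1, thn_one P θ⟩
  rcases hS.sign with hσ | hσ
  · exfalso
    rw [hσ, mul_one] at hdegA
    have hA0 : A = 0 := by
      by_contra hne
      have h1 : (p : ℤ) * 1 ≤ (p : ℤ) * A := mul_le_mul_of_nonneg_left (by omega) (by omega)
      have h2 : (0 : ℤ) < (e : ℤ) * f θ := by have := hfpos θ; positivity
      omega
    rw [hA0, Nat.cast_zero, mul_zero, zero_add] at hdegA
    have hef : e * f θ = p - 2 := by exact_mod_cast hdegA.symm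
    have he1 : e = 1 := Nat.dvd_one.mp (by
      have := Nat.dvd_sub hed (Dvd.intro (f θ) hef)
      rwa [show p - 1 - (p - 2) = 1 by omega] at this)
    rw [he1, one_mul] at hef
    have hc1 : c = 1 := Nat.eq_one_of_mul_eq_one_right (hce.trans he1)
    have hE1 : E = 1 := Nat.eq_one_of_mul_eq_one_left (hce.trans he1)
    have hn0 : ∀ φ ∈ T, n φ 0 = 0 := fun φ hφ => by
      have := (Finset.sum_eq_zero_iff.mp (hA ▸ hA0 : _ = 0)) φ hφ
      exact (Nat.mul_eq_zero.mp this).resolve_left (hfpos φ).ne'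
    obtain ⟨i₁, hi₁⟩ : ∃ i₁, O = {i₁} := Finset.card_eq_one.mp (by rw [card_eOrbit P hP θ hi₀]; exact hE1)
    have hmj : ∀ j, m j = if j = i₁ then p - 2 else 0 := by
      intro j
      simp only [hm]
      rw [Finset.sum_eq_single_of_mem θ hθT]
      · have h := (hn θ hθT).2 j
        rw [hn0 θ hθT, Nat.cast_zero, zero_add, hrowθ j, hi₁, hσ] at h
        simp only [Finset.mem_singleton] at h
        split_ifs at h ⊢ with hj
        · rw [show n θ j = 1 by exact_mod_cast h, mul_one, hef]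
        · rw [show n θ j = 0 by exact_mod_cast h, mul_zero]
      · intro φ hφ hne
        have hout : φ ∉ conjs P θ := fun hh => hne (Finset.card_le_one.mp hc1.le φ hh θ hθc)
        have h := (hn φ hφ).2 j
        rw [hn0 φ hφ, hrowout φ hφ hout j, Nat.cast_zero, zero_add] at h
        rw [show n φ j = 0 by exact_mod_cast h, mul_zero]
    have hnorm : ‖(χ : G → ℂ) (pw P hP 1)‖ = ((p - 2 : ℕ) : ℝ) := by
      rw [hvalP 1, Finset.sum_eq_single i₁ (fun j _ hj => by rw [hmj j, if_neg hj, Nat.cast_zero, zero_mul])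
        (by simp), hmj i₁, if_pos rfl, norm_mul, Complex.norm_natCast, mul_one, AddChar.norm_apply, mul_one]
    have hcen := mem_center_of_norm (CfsgLib.Char.isCharacter_of_isIrr χ.2) hfaith hdeg hnorm
    refine hnn ⟨fun u hu g => ?_⟩
    rw [← zpowers_pw P hP (one_ne_zero (α := ZMod p))] at hu
    obtain ⟨k, rfl⟩ := Subgroup.mem_zpowers_iff.mp hu
    rw [Subgroup.mem_center_iff.mp (Subgroup.zpow_mem _ hcen k) g, mul_inv_cancel_right]
    exact Subgroup.zpow_mem _ (pw_mem P hP 1) k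
  · -- the negative sign
    rw [hσ, mul_neg_one] at hdegA
    have hn0pos : ∀ φ ∈ conjs P θ, 1 ≤ n φ 0 := by
      intro φ hφ
      obtain ⟨w, rfl⟩ := (mem_conjs P θ).mp hφ
      have h := (hn _ (hconjT _ hφ)).2 (rho P hP w * i₀)
      rw [row_thn P hP hθP, inv_mul_cancel_left₀ (rho_ne_zero P hP w), hrowθ,
        if_pos (self_mem_eOrbit P hP θ i₀), hσ] at h
      omega
    have hcf : c * f θ ≤ A := by
      calc c * f θ = ∑ φ ∈ conjs P θ, f φ := by
            rw [Finset.sum_congr rfl hfc, Finset.sum_const, smul_eq_mul]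
        _ ≤ ∑ φ ∈ conjs P θ, f φ * n φ 0 :=
            Finset.sum_le_sum fun φ hφ => Nat.le_mul_of_pos_right _ (hn0pos φ hφ)
        _ ≤ A := Finset.sum_le_sum_of_subset fun φ hφ => hconjT φ hφ
    have hAle : A ≤ p - 2 := hAm ▸ hmsum ▸ Finset.single_le_sum (fun j _ => Nat.zero_le (m j))
      (Finset.mem_univ 0)
    have hA1 : 1 ≤ A := le_trans (Nat.mul_pos (Finset.card_pos.mpr ⟨θ, hθc⟩) (hfpos θ)) hcf
    have hef : e * f θ = (A - 1) * p + 2 := by
      have h1 : ((e * f θ : ℕ) : ℤ) = (((A - 1) * p + 2 : ℕ) : ℤ) := by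
        push_cast [Nat.cast_sub hA1, Nat.cast_sub (show 2 ≤ p by omega)] at hdegA ⊢
        linear_combination hdegA
      exact_mod_cast h1
    have hfle : f θ ≤ A - 1 + 1 := by
      have h1 : f θ * 1 ≤ f θ * c := Nat.mul_le_mul_left _ (Finset.card_pos.mpr ⟨θ, hθc⟩)
      rw [mul_one, mul_comm] at h1
      omega
    rcases local_arith hp5 hed hef hfle (by omega) with ⟨hk, hef2⟩ | hk
    swap
    · exfalso
      refine hker fun j hj => ?_
      have h1 := Finset.add_sum_erase _ m (Finset.mem_univ (0 : ZMod p))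
      rw [hmsum, hAm] at h1
      exact (Finset.sum_eq_zero_iff.mp (by omega : ∑ j ∈ Finset.univ.erase (0 : ZMod p), m j = 0)) j
        (Finset.mem_erase.mpr ⟨hj, Finset.mem_univ j⟩)
    have hA' : A = 1 := by omega
    have hfθ : f θ = 1 := by
      have := hfpos θ
      omega
    rw [hfθ, mul_one] at hef2 hcf
    have hc1 : c = 1 := by
      have : 0 < c := Finset.card_pos.mpr ⟨θ, hθc⟩
      omega
    have hE2 : E = 2 := by rw [← hef2, ← hce, hc1, one_mul]
    have hsplit := Finset.add_sum_erase T (fun φ => f φ * n φ 0) hθT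
    rw [← hA, hA', hfθ, one_mul] at hsplit
    have hnθ : n θ 0 = 1 := by have := hn0pos θ hθc; omega
    have hnout : ∀ φ ∈ T, φ ≠ θ → ∀ j, n φ j = 0 := by
      intro φ hφ hne j
      have h0 : f φ * n φ 0 = 0 :=
        (Finset.sum_eq_zero_iff.mp (by omega : ∑ x ∈ T.erase θ, f x * n x 0 = 0)) φ
          (Finset.mem_erase.mpr ⟨hne, hφ⟩)
      have hout : φ ∉ conjs P θ := fun hh => hne (Finset.card_le_one.mp hc1.le φ hh θ hθc)
      have h := (hn φ hφ).2 j
      rw [(Nat.mul_eq_zero.mp h0).resolve_left (hfpos φ).ne', hrowout φ hφ hout j, Nat.cast_zero, zero_add] at h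
      exact_mod_cast h
    have hmθ : ∀ j, m j = n θ j := fun j => by
      simp only [hm]
      rw [Finset.sum_eq_single_of_mem θ hθT fun φ hφ hne => by rw [hnout φ hφ hne j, mul_zero], hfθ, one_mul]
    have hθ1 : (θ : C → ℂ) 1 = 1 := by rw [hf1, hfθ, Nat.cast_one]
    have hy : ∀ y : C, ¬ p ∣ orderOf y → (χ : G → ℂ) (y : G) = ((p - 2 : ℕ) : ℂ) * (θ : C → ℂ) y := by
      intro y hy
      have h := hval 0 y hy
      rw [pw_zero, one_mul, Finset.sum_eq_single_of_mem θ hθT fun φ hφ hne => by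
        rw [Finset.sum_eq_zero fun j _ => by rw [hnout φ hφ hne j, Nat.cast_zero, zero_mul], zero_mul]] at h
      rw [h, ← hmsum, Nat.cast_sum]
      refine congrArg (· * _) (Finset.sum_congr rfl fun j _ => ?_)
      rw [mul_zero, AddChar.map_zero_eq_one, mul_one, hmθ j]
    refine ⟨θ, hθP, hθ1, fun y hyr => ?_, hy, hef2, ?_⟩
    · refine mem_center_of_norm (CfsgLib.Char.isCharacter_of_isIrr χ.2) hfaith hdeg ?_
      have hlin := CfsgLib.Char.isCharacter_of_isIrr θ.2
      have hn1 : ‖(θ : C → ℂ) y‖ = 1 := by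
        have h := CfsgLib.Char.linear_map_mul hlin hθ1 y y⁻¹
        rw [mul_inv_cancel, hθ1, CfsgLib.Char.char_inv hlin, Complex.mul_conj'] at h
        have h2 : ‖(θ : C → ℂ) y‖ ^ 2 = 1 := by exact_mod_cast h.symm
        exact (pow_eq_one_iff_of_nonneg (norm_nonneg _) two_ne_zero).mp h2
      rw [hy y hyr, norm_mul, hn1, Complex.norm_natCast, mul_one]
    · obtain ⟨j, hj⟩ : ((Finset.univ.erase (0 : ZMod p)) \ O).Nonempty := by
        rw [← Finset.card_pos]
        have h1 := Finset.le_card_sdiff O (Finset.univ.erase (0 : ZMod p))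
        rw [Finset.card_erase_of_mem (Finset.mem_univ _), Finset.card_univ, ZMod.card,
          card_eOrbit P hP θ hi₀] at h1
        omega
      obtain ⟨hj0, hjO⟩ := Finset.mem_sdiff.mp hj
      exact ⟨i₀, j, hi₀, (Finset.mem_erase.mp hj0).1, by rw [hrowθ, if_pos (self_mem_eOrbit P hP θ i₀), hσ],
        by rw [hrowθ, if_neg hjO]⟩

end CfsgLib.PrimeDegreeTwo.Faithful
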