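import Cfsg.Agent.Lib.PrimeDegreeTwo.Faithful.Block
import Cfsg.Agent.Lib.CharNormal.Gallagher

/-!
# A faithful character of degree `p - 2` gives a linear character faithful on the centre

The block of the faithful central character has a member `X₂` of degree `m p + 1`. The two block
sums at an inverting element agree only for `m = 0`, so `X₂` is linear and `X₁ X₂⁻¹` is a character
of degree `p - 1` of `G / Z(G)`.
-/

set_option autoImplicit false
set_option maxHeartbeats 1600000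

noncomputable section

namespace CfsgLib.PrimeDegreeTwo.Faithful

open Cfsg CfsgLib.Blocks CfsgLib.Blocks.PrimeSylow CfsgLib.Blocks.PrimeLocal CfsgLib.Blocks.PrimeBlock
open scoped ComplexConjugate

variable {G : Type*} [Group G] [Fintype G] {p : ℕ} [hp : Fact p.Prime] (P : Sylow p G) (hP : Nat.card P = p)
  [Fintype (Subgroup.normalizer ((P : Subgroup G) : Set G))]
  [Fintype (Subgroup.centralizer ((P : Subgroup G) : Set G))]

local notation "ψ" => ZMod.stdAddChar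
local notation "C" => Subgroup.centralizer ((P : Subgroup G) : Set G)
local notation "N" => Subgroup.normalizer ((P : Subgroup G) : Set G)

include hP in
/-- The sums over `P` of a member with a constant coefficient and of an exceptional member. -/
theorem sum_values (χ : IrrCharacter G) (F : ZMod p → ℂ) (hF : ∀ i, i ≠ 0 → (χ : G → ℂ) (pw P hP i) = F i) :
    ∑ i : ZMod p, (χ : G → ℂ) (pw P hP i) = (χ : G → ℂ) 1 + ∑ i ∈ Finset.univ.erase (0 : ZMod p), F i := by
  rw [← Finset.add_sum_erase _ _ (Finset.mem_univ (0 : ZMod p)), pw_zero,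
    Finset.sum_congr rfl fun i hi => hF i (Finset.mem_erase.mp hi).1]

/-- The sum of `ψ (a i) + ψ (- a i)` over the nonzero residues. -/
theorem sum_pair {a : ZMod p} (ha : a ≠ 0) :
    ∑ i ∈ Finset.univ.erase (0 : ZMod p), ((ψ (a * i) : ℂ) + ψ (-(a * i))) = -2 := by
  have h : ∀ b : ZMod p, b ≠ 0 → ∑ i ∈ Finset.univ.erase (0 : ZMod p), (ψ (b * i) : ℂ) = -1 := fun b hb => by
    have h := sum_stdAddChar (p := p) b
    rw [if_neg hb, ← Finset.add_sum_erase _ _ (Finset.mem_univ (0 : ZMod p)), zero_mul,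
      AddChar.map_zero_eq_one] at h
    rw [Finset.sum_congr rfl fun i _ => by rw [mul_comm b i]]
    linear_combination h
  rw [Finset.sum_add_distrib, h a ha, Finset.sum_congr rfl fun i _ => by rw [← neg_mul], h _ (neg_ne_zero.mpr ha)]
  norm_num

include hP in
/-- **The linear character and the character of degree `p - 1`.** -/
theorem faithful_structure (hp5 : 5 < p) (hnn : ¬ (P : Subgroup G).Normal) (χ : IrrCharacter G)
    (hfaith : ∀ g : G, (χ : G → ℂ) g = (χ : G → ℂ) 1 → g = 1) (hdeg : (χ : G → ℂ) 1 = ((p - 2 : ℕ) : ℂ)) :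
    (∀ y : C, ¬ p ∣ orderOf y → (y : G) ∈ Subgroup.center G) ∧ (C).relIndex N = 2 ∧
    (∀ z ∈ Subgroup.center G, ¬ p ∣ orderOf z) ∧
    ∃ lam φ : IrrCharacter G, (lam : G → ℂ) 1 = 1 ∧
      (∀ z ∈ Subgroup.center G, (lam : G → ℂ) z = 1 → z = 1) ∧ (φ : G → ℂ) 1 = (p : ℂ) - 1 ∧
      (∀ z ∈ Subgroup.center G, (φ : G → ℂ) z = (φ : G → ℂ) 1) ∧
      (∀ g : G, (φ : G → ℂ) g = (φ : G → ℂ) 1 → g ∈ Subgroup.center G) ∧
      (∀ i : ZMod p, i ≠ 0 → (φ : G → ℂ) (pw P hP i) = -1) := by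
  classical
  have hpp : p.Prime := hp.out
  have : NeZero p := ⟨hpp.ne_zero⟩
  have hp2 : p ≠ 2 := by omega
  have hp7 : 7 ≤ p := by
    by_contra hlt
    obtain rfl : p = 6 := by omega
    norm_num at hpp
  obtain ⟨θ, hθP, hθ1, hZ, hy, hrel, i₁, j₁, hi₁, hj₁, hrow1, hrow0⟩ :=
    faithful_local P hP hp5 hnn χ hfaith hdeg
  obtain ⟨τ, hinv, hτ2, hτr⟩ := exists_inverter P hP hp2 hZ hrel
  obtain ⟨M, hM⟩ := CfsgLib.Invol.exists_isPModular p hpp
  have := hM.2.1
  have hone : ¬ p ∣ orderOf (1 : C) := by rw [orderOf_one]; exact hpp.not_dvd_one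
  have hone' : ¬ p ∣ orderOf (1 : G) := by rw [orderOf_one]; exact hpp.not_dvd_one
  have hcd : ∀ X : IrrCharacter G, (X : G → ℂ) 1 = (charDegree (X : G → ℂ) : ℂ) := fun X =>
    (CfsgLib.CharBlocks.coe_charDegree_irr X).symm
  -- the block of `θ`
  obtain ⟨B, hind, hBP⟩ := exists_block_of_trivial (M := M) P hP hM θ
  have hθb : θ ∈ blockOf M (θ : C → ℂ) := mem_blockOf_self θ
  obtain ⟨Y, s, σ, hS⟩ := exists_shape P hP θ hθP hM hBP hind hθb
  have hχB : χ ∈ B := by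
    by_contra h
    have h1 := row_eq_zero_of_coef P hP hθP χ
      (fun i hi => coef_eq_zero_of_notMem P hP hM hind hθb h hi) i₁
    omega
  have hχY : χ ∈ Y := by
    by_contra h
    have := hS.row_X χ hχB h j₁ hj₁
    rcases hS.sign_X χ hχB h with h' | h' <;> omega
  have hσ : σ = -1 := by
    obtain ⟨a, ha, hra⟩ := hS.row_Y χ hχY
    have h := hra i₁ hi₁
    rw [hrow1] at h
    split_ifs at h <;> omega
  have hval : ∀ X ∈ B, ∀ i : ZMod p, i ≠ 0 → (X : G → ℂ) (pw P hP i) = coef P hP θ (X : G → ℂ) i := by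
    intro X hX i hi
    have h := value_of_mem P hP hθP hZ hM hBP hind hθb hX hi hone
    rwa [OneMemClass.coe_one, mul_one, hθ1, mul_one] at h
  have hXbound : ∀ X ∈ B, X ∉ Y → ∃ m : ℕ,
      (charDegree (X : G → ℂ) : ℤ) - s X * ((p : ℤ) - 1) = p * m ∧ ‖(X : G → ℂ) τ‖ ≤ m := by
    intro X hX hXY
    obtain ⟨m, hm, hle, -⟩ := value_bound P hP hp2 hinv (CfsgLib.Char.isCharacter_of_isIrr X.2)
    rw [sum_values P hP X (fun _ => -(s X : ℂ)) (fun i hi => by rw [hval X hX i hi, coef_X P hP hθP hS hX hXY hi]),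
      Finset.sum_const, Finset.card_erase_of_mem (Finset.mem_univ _), Finset.card_univ, ZMod.card, nsmul_eq_mul,
      Nat.cast_sub hpp.one_le, Nat.cast_one, hcd] at hm
    refine ⟨m, Int.cast_injective (α := ℂ) ?_, hle⟩
    push_cast
    linear_combination hm
  have hχτ : ‖(χ : G → ℂ) τ‖ = 1 := by
    obtain ⟨m, hm, -, h1⟩ := value_bound P hP hp2 hinv (CfsgLib.Char.isCharacter_of_isIrr χ.2)
    obtain ⟨a, ha, hca⟩ := coef_Y P hP hθP hZ hp2 hrel hS hχY
    rw [sum_values P hP χ (fun i => (σ : ℂ) * (ψ (a * i) + ψ (-(a * i))))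
        (fun i hi => by rw [hval χ hχB i hi, hca i hi]),
      ← Finset.mul_sum, sum_pair ha, hσ, hdeg, Nat.cast_sub (by omega : 2 ≤ p)] at hm
    refine h1 ?_
    have h2 : (p : ℂ) * m = (p : ℂ) * 1 := by rw [← hm]; push_cast; ring
    exact_mod_cast mul_left_cancel₀ (Nat.cast_ne_zero.mpr hpp.ne_zero) h2
  have hχτ0 : (χ : G → ℂ) τ ≠ 0 := fun h => by rw [h, norm_zero] at hχτ; exact zero_ne_one hχτ
  obtain ⟨X₀, hX₀, hX₀Y⟩ : ∃ X, X ∈ B ∧ X ∉ Y := by
    by_contra h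
    push Not at h
    have h1 := hS.card_eq
    rw [show B = Y from Set.Subset.antisymm h hS.le, hS.card_Y] at h1
    have := card_Eset_pos P hP θ
    omega
  obtain ⟨X₁, hX₁, hX₁Y, hs₁⟩ : ∃ X, X ∈ B ∧ X ∉ Y ∧ s X = 1 := by
    obtain ⟨X₂, hX₂, hX₂Y, hrl, -⟩ := pair_data P hP hθP hZ hrel hM hind hθb hS hX₀ hX₀Y hχY
    rcases hS.sign_X X₀ hX₀ hX₀Y with h | h
    · exact ⟨X₀, hX₀, hX₀Y, h⟩
    refine ⟨X₂, hX₂, hX₂Y, (hS.sign_X X₂ hX₂ hX₂Y).resolve_right fun h2 => ?_⟩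
    have h3 := hrl 1 hone'
    rw [h, h2, hσ, hdeg, hcd, hcd] at h3
    have h4 : (((charDegree (X₀ : G → ℂ) + charDegree (X₂ : G → ℂ) + (p - 2) : ℕ)) : ℂ) = 0 := by
      push_cast at h3 ⊢; linear_combination -h3
    have h5 : charDegree (X₀ : G → ℂ) + charDegree (X₂ : G → ℂ) + (p - 2) = 0 := by exact_mod_cast h4
    omega
  obtain ⟨X₂, hX₂, hX₂Y, hrl, hsumθ⟩ := pair_data P hP hθP hZ hrel hM hind hθb hS hX₁ hX₁Y hχY
  obtain ⟨μ₁, hμ₁, -⟩ := hXbound X₁ hX₁ hX₁Y
  rw [hs₁] at hμ₁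
  obtain ⟨μ₂, hμ₂, hv₂⟩ := hXbound X₂ hX₂ hX₂Y
  have hrdeg : (charDegree (X₁ : G → ℂ) : ℤ) + s X₂ * charDegree (X₂ : G → ℂ) = (p : ℤ) - 2 := by
    have h3 := hrl 1 hone'
    rw [hs₁, hσ, hdeg, hcd, hcd, Nat.cast_sub (by omega : 2 ≤ p)] at h3
    refine Int.cast_injective (α := ℂ) ?_
    push_cast at h3 ⊢
    linear_combination h3
  have hdpos : ∀ X : IrrCharacter G, 0 < charDegree (X : G → ℂ) := fun X =>
    Nat.pos_of_ne_zero (charDegree_ne_zero X)
  have hs₂ : s X₂ = -1 := (hS.sign_X X₂ hX₂ hX₂Y).resolve_left fun h => by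
    have h1 : (0 : ℤ) ≤ (p : ℤ) * μ₁ := by positivity
    rw [h] at hrdeg
    have := hdpos X₂
    omega
  rw [hs₂] at hμ₂ hrdeg
  set d₁ := charDegree (X₁ : G → ℂ) with hd₁
  set d₂ := charDegree (X₂ : G → ℂ) with hd₂
  have hμ₂1 : 1 ≤ μ₂ := by
    by_contra h
    rw [show μ₂ = 0 by omega, Nat.cast_zero, mul_zero] at hμ₂
    have := hdpos X₂
    omega
  obtain ⟨m, rfl⟩ : ∃ m, μ₂ = m + 1 := ⟨μ₂ - 1, by omega⟩
  have hd₂m : (d₂ : ℤ) = p * m + 1 := by push_cast at hμ₂; linear_combination hμ₂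
  have hregeq : ∀ g : G, ¬ p ∣ orderOf g → (X₁ : G → ℂ) g = (X₂ : G → ℂ) g + (χ : G → ℂ) g := fun g hg => by
    have h := hrl g hg
    rw [hs₁, hs₂, hσ] at h
    push_cast at h
    linear_combination h
  have hm0 : m = 0 := by
    by_contra hne
    have hd₁m : (d₁ : ℤ) = d₂ + ((p : ℤ) - 2) := by linear_combination hrdeg
    -- the faithful block sum
    have hup : Complex.normSq ((χ : G → ℂ) τ) / ((p : ℝ) - 2) + Complex.normSq ((X₂ : G → ℂ) τ) / (d₂ : ℝ) -
        Complex.normSq ((X₂ : G → ℂ) τ + (χ : G → ℂ) τ) / (d₁ : ℝ) ≤ ((p : ℝ) - 1) ^ 2 / (p : ℝ) ^ 2 :=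
      faithful_sum_le (by exact_mod_cast hp7) (m := (m : ℝ)) (by exact_mod_cast Nat.one_le_iff_ne_zero.mpr hne)
        (by rw [mul_comm]; exact_mod_cast hd₂m) (by exact_mod_cast hd₁m) hχτ (by
          refine hv₂.trans (le_of_eq ?_); push_cast; ring)
    -- the principal block
    obtain ⟨θ₀, hθ₀⟩ : ∃ θ₀ : IrrCharacter C, ∀ c : C, (θ₀ : C → ℂ) c = 1 :=
      ⟨⟨fun _ => 1, CfsgLib.Char.isIrrCharacter_one⟩, fun _ => rfl⟩
    have hθ₀P : ∀ x : C, (x : G) ∈ (P : Subgroup G) → (θ₀ : C → ℂ) x = (θ₀ : C → ℂ) 1 := fun x _ => by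
      rw [hθ₀, hθ₀]
    obtain ⟨B₀, hind₀, hBP₀⟩ := exists_block_of_trivial (M := M) P hP hM θ₀
    have hθ₀b : θ₀ ∈ blockOf M (θ₀ : C → ℂ) := mem_blockOf_self θ₀
    obtain ⟨Y₀, s₀, σ₀, hS₀⟩ := exists_shape P hP θ₀ hθ₀P hM hBP₀ hind₀ hθ₀b
    set one : IrrCharacter G := CfsgLib.Char.irrOne with hone_def
    have hcoef1 : ∀ i : ZMod p, coef P hP θ₀ (one : G → ℂ) i = 1 := by
      intro i
      have h := sum_split P hP (fun _ : C => (1 : ℂ))
      rw [Finset.sum_const, Finset.sum_const, Finset.card_univ, Finset.card_univ, ZMod.card, nsmul_eq_mul,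
        nsmul_eq_mul, mul_one, ← Nat.card_eq_fintype_card] at h
      rw [coef, Finset.sum_congr rfl fun (y : C) _ => show (if p ∣ orderOf y then (0 : ℂ) else
          (one : G → ℂ) (pw P hP i * (y : G)) * conj ((θ₀ : C → ℂ) y)) = if p ∣ orderOf y then 0 else 1 by
        rw [hθ₀, CfsgLib.Char.irrOne_apply, map_one, mul_one],
        div_mul_eq_mul_div, ← h, div_self (CfsgLib.Char.card_ne_zero' (G := C))]
    have honeB : one ∈ B₀ := by
      by_contra h
      have := coef_eq_zero_of_notMem P hP hM hind₀ hθ₀b h (one_ne_zero (α := ZMod p))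
      rw [hcoef1] at this
      exact one_ne_zero this
    have honeY : one ∉ Y₀ := fun h => by
      obtain ⟨a, ha, hca⟩ := coef_Y P hP hθ₀P hZ hp2 hrel hS₀ h
      have h1 : ∑ i ∈ Finset.univ.erase (0 : ZMod p), coef P hP θ₀ (one : G → ℂ) i = (σ₀ : ℂ) * -2 := by
        rw [Finset.sum_congr rfl fun i hi => hca i (Finset.mem_erase.mp hi).1, ← Finset.mul_sum, sum_pair ha]
      rw [Finset.sum_congr rfl fun i _ => hcoef1 i, Finset.sum_const,
        Finset.card_erase_of_mem (Finset.mem_univ _), Finset.card_univ, ZMod.card, nsmul_eq_mul, mul_one,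
        Nat.cast_sub hpp.one_le] at h1
      have h2 : (p : ℤ) - 1 = σ₀ * -2 := Int.cast_injective (α := ℂ) (by push_cast at h1 ⊢; exact h1)
      rcases hS₀.sign with h3 | h3 <;> rw [h3] at h2 <;> omega
    have hsone : s₀ one = -1 := by
      have h := coef_X P hP hθ₀P hS₀ honeB honeY (one_ne_zero (α := ZMod p))
      rw [hcoef1] at h
      exact Int.cast_injective (α := ℂ) (by push_cast; linear_combination h)
    obtain ⟨η, hη, -⟩ := hS₀.surj 1 one_ne_zero
    obtain ⟨A, hA, hAY, hrl₀, hsum₀⟩ := pair_data P hP hθ₀P hZ hrel hM hind₀ hθ₀b hS₀ honeB honeY hη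
    have hval₀ : ∀ X ∈ B₀, ∀ i : ZMod p, i ≠ 0 → (X : G → ℂ) (pw P hP i) = coef P hP θ₀ (X : G → ℂ) i := by
      intro X hX i hi
      have h := value_of_mem P hP hθ₀P hZ hM hBP₀ hind₀ hθ₀b hX hi hone
      rwa [OneMemClass.coe_one, mul_one, hθ₀, mul_one] at h
    obtain ⟨μA, hμA, hvA⟩ : ∃ k : ℕ, (charDegree (A : G → ℂ) : ℤ) - s₀ A * ((p : ℤ) - 1) = p * k ∧
        ‖(A : G → ℂ) τ‖ ≤ k := by
      obtain ⟨k, hk, hle, -⟩ := value_bound P hP hp2 hinv (CfsgLib.Char.isCharacter_of_isIrr A.2)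
      rw [sum_values P hP A (fun _ => -(s₀ A : ℂ))
          (fun i hi => by rw [hval₀ A hA i hi, coef_X P hP hθ₀P hS₀ hA hAY hi]),
        Finset.sum_const, Finset.card_erase_of_mem (Finset.mem_univ _), Finset.card_univ, ZMod.card, nsmul_eq_mul,
        Nat.cast_sub hpp.one_le, Nat.cast_one, hcd] at hk
      refine ⟨k, Int.cast_injective (α := ℂ) ?_, hle⟩
      push_cast
      linear_combination hk
    obtain ⟨μY, hμY, hvY⟩ : ∃ k : ℕ, (charDegree (η : G → ℂ) : ℤ) - 2 * σ₀ = p * k ∧ ‖(η : G → ℂ) τ‖ ≤ k := by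
      obtain ⟨k, hk, hle, -⟩ := value_bound P hP hp2 hinv (CfsgLib.Char.isCharacter_of_isIrr η.2)
      obtain ⟨a, ha, hca⟩ := coef_Y P hP hθ₀P hZ hp2 hrel hS₀ hη
      rw [sum_values P hP η (fun i => (σ₀ : ℂ) * (ψ (a * i) + ψ (-(a * i))))
          (fun i hi => by rw [hval₀ η (hS₀.le hη) i hi, hca i hi]),
        ← Finset.mul_sum, sum_pair ha, hcd] at hk
      refine ⟨k, Int.cast_injective (α := ℂ) ?_, hle⟩
      push_cast
      linear_combination hk
    set d := charDegree (A : G → ℂ) with hd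
    set f := charDegree (η : G → ℂ) with hf
    set v := (A : G → ℂ) τ with hv
    have hdeg₀ : -1 + s₀ A * (d : ℤ) + σ₀ * f = 0 := by
      have h3 := hrl₀ 1 hone'
      rw [hsone, CfsgLib.Char.irrOne_apply, hcd, hcd] at h3
      refine Int.cast_injective (α := ℂ) ?_
      push_cast at h3 ⊢
      linear_combination h3
    have hτ₀ : -1 + (s₀ A : ℂ) * v + (σ₀ : ℂ) * (η : G → ℂ) τ = 0 := by
      have h3 := hrl₀ τ hτr
      rw [hsone, CfsgLib.Char.irrOne_apply] at h3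
      push_cast at h3
      linear_combination h3
    have hlow : ((p : ℝ) - 1) ^ 2 / (p : ℝ) ^ 2 <
        1 - (s₀ A : ℝ) * Complex.normSq v / (d : ℝ) - (σ₀ : ℝ) * Complex.normSq ((η : G → ℂ) τ) / (f : ℝ) := by
      have hdA := hdpos A
      have hfp := hdpos η
      rcases hS₀.sign_X A hA hAY with hsA | hsA <;> rw [hsA] at hμA hdeg₀ hτ₀ ⊢
      · -- degree `-1` modulo `p`
        have hd' : (d : ℤ) = (μA + 1 : ℕ) * p - 1 := by push_cast; linear_combination hμA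
        have hd2 : 2 ≤ d := by
          have : (p : ℤ) * μA ≥ 0 := by positivity
          omega
        have hσ₀ : σ₀ = -1 := hS₀.sign.resolve_left fun h => by rw [h] at hdeg₀; omega
        rw [hσ₀] at hdeg₀ hτ₀ ⊢
        have hw : (η : G → ℂ) τ = v - 1 := by push_cast at hτ₀; linear_combination -hτ₀
        have hf' : (f : ℝ) = (d : ℝ) - 1 := by
          have h : (f : ℤ) = (d : ℤ) - 1 := by linear_combination -hdeg₀
          exact_mod_cast h
        have h := principal_sum_minus (p := (p : ℝ)) (by exact_mod_cast hp7) (m := ((μA + 1 : ℕ) : ℝ))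
          (by exact_mod_cast Nat.succ_pos μA) (d := (d : ℝ)) (by exact_mod_cast hd') (v := v)
          (by push_cast; linarith [hvA])
        rw [hw, hf']
        push_cast
        simpa [neg_div] using h
      · -- degree `1` modulo `p`
        have hμA1 : 1 ≤ μA := by
          by_contra h
          rw [show μA = 0 by omega, Nat.cast_zero, mul_zero] at hμA
          omega
        obtain ⟨k, rfl⟩ : ∃ k, μA = k + 1 := ⟨μA - 1, by omega⟩
        have hσ₀ : σ₀ = 1 := hS₀.sign.resolve_right fun h => by rw [h] at hdeg₀; omega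
        rw [hσ₀] at hdeg₀ hτ₀ hμY ⊢
        have hd' : (d : ℤ) = k * p + 1 := by push_cast at hμA; linear_combination hμA
        have hw : (η : G → ℂ) τ = 1 + v := by push_cast at hτ₀; linear_combination hτ₀
        have hf' : (f : ℝ) = (d : ℝ) + 1 := by
          have h : (f : ℤ) = (d : ℤ) + 1 := by linear_combination hdeg₀
          exact_mod_cast h
        have hkY : μY = k := by
          have h : (p : ℤ) * μY = (p : ℤ) * k := by linear_combination -hμY + hdeg₀ + hd'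
          exact_mod_cast mul_left_cancel₀ (by exact_mod_cast hpp.ne_zero) h
        rw [hw, hkY] at hvY
        have h := principal_sum_plus (p := (p : ℝ)) (by exact_mod_cast hp7) (m := (k : ℝ)) (Nat.cast_nonneg k)
          (d := (d : ℝ)) (by exact_mod_cast hd') (v := v) hvY
        rw [hw, hf']
        push_cast
        simpa [neg_div] using h
    have heq := blockSum_eq P hP hp2 hZ hfaith hinv hτ2 hχτ0 hθ1 (hθ₀ 1)
    rw [hsumθ τ hτr, hsum₀ τ hτr, hs₁, hs₂, hσ, hsone, hregeq τ hτr, hdeg, CfsgLib.Char.irrOne_apply,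
      CfsgLib.Char.irrOne_apply, hcd, hcd, hcd, hcd, ← hd₁, ← hd₂, ← hd, ← hf,
      Nat.cast_sub (by omega : 2 ≤ p), map_one] at heq
    have hreal : Complex.normSq ((χ : G → ℂ) τ) / ((p : ℝ) - 2) + Complex.normSq ((X₂ : G → ℂ) τ) / (d₂ : ℝ) -
        Complex.normSq ((X₂ : G → ℂ) τ + (χ : G → ℂ) τ) / (d₁ : ℝ) =
        1 - (s₀ A : ℝ) * Complex.normSq v / (d : ℝ) - (σ₀ : ℝ) * Complex.normSq ((η : G → ℂ) τ) / (f : ℝ) := by
      apply Complex.ofReal_injective
      push_cast at heq ⊢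
      linear_combination heq
    linarith
  -- the linear character
  rw [hm0, Nat.cast_zero, mul_zero, zero_add] at hd₂m
  have hlam1 : (X₂ : G → ℂ) 1 = 1 := by rw [hcd, ← hd₂, show d₂ = 1 by exact_mod_cast hd₂m, Nat.cast_one]
  have hX₁1 : (X₁ : G → ℂ) 1 = (p : ℂ) - 1 := by
    rw [hregeq 1 hone', hlam1, hdeg, Nat.cast_sub (by omega : 2 ≤ p)]
    push_cast; ring
  have hlamchar := CfsgLib.Char.isCharacter_of_isIrr X₂.2
  have hlamu : ∀ g, (X₂ : G → ℂ) g * conj ((X₂ : G → ℂ) g) = 1 := fun g => by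
    rw [← CfsgLib.Char.char_inv hlamchar, ← CfsgLib.Char.linear_map_mul hlamchar hlam1, mul_inv_cancel, hlam1]
  have hlamθ : ∀ y : C, ¬ p ∣ orderOf y → (X₂ : G → ℂ) (y : G) = (θ : C → ℂ) y := by
    intro y hyr
    have h1 := value_of_mem P hP hθP hZ hM hBP hind hθb hX₂ (one_ne_zero (α := ZMod p)) hyr
    rw [CfsgLib.Char.linear_map_mul hlamchar hlam1, hval X₂ hX₂ 1 one_ne_zero,
      coef_X P hP hθP hS hX₂ hX₂Y one_ne_zero, hs₂] at h1
    simpa using h1
  have hcenC : ∀ z ∈ Subgroup.center G, z ∈ C := fun z hz =>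
    Subgroup.center_le_centralizer _ hz
  have hzreg : ∀ z ∈ Subgroup.center G, ¬ p ∣ orderOf z := by
    intro z hz hd
    obtain ⟨k, hk⟩ : ∃ k, orderOf z = p * k := hd
    have hw : orderOf (z ^ k) = p := by
      rw [orderOf_pow_of_dvd (fun h => by rw [h, mul_zero] at hk; exact (orderOf_pos z).ne' hk)
        ⟨p, by rw [hk]; ring⟩, hk, Nat.mul_div_cancel _ (Nat.pos_of_ne_zero fun h => by
          rw [h, mul_zero] at hk; exact (orderOf_pos z).ne' hk)]
    have hwP : z ^ k ∈ (P : Subgroup G) :=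
      mem_of_pElement_centralizer P (hcenC _ (Subgroup.pow_mem _ hz k)) ⟨1, by rw [hw, pow_one]⟩
    refine hnn ⟨fun u hu g => ?_⟩
    have hgen : (P : Subgroup G) = Subgroup.zpowers (z ^ k) :=
      (Subgroup.eq_of_le_of_card_ge (Subgroup.zpowers_le.mpr hwP) (by rw [Nat.card_zpowers, hw]; exact hP.le)).symm
    have hu' : u ∈ Subgroup.center G := by
      rw [hgen] at hu
      exact Subgroup.zpowers_le.mpr (Subgroup.pow_mem _ hz k) hu
    rw [Subgroup.mem_center_iff.mp hu' g, mul_inv_cancel_right]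
    exact hu
  have hzlam : ∀ z (hz : z ∈ Subgroup.center G), (χ : G → ℂ) z = ((p - 2 : ℕ) : ℂ) * (X₂ : G → ℂ) z := by
    intro z hz
    have hr : ¬ p ∣ orderOf (⟨z, hcenC z hz⟩ : C) := by rw [Subgroup.orderOf_mk]; exact hzreg z hz
    rw [show (X₂ : G → ℂ) z = (θ : C → ℂ) ⟨z, hcenC z hz⟩ from hlamθ _ hr]
    exact hy _ hr
  set φ : IrrCharacter G := ⟨(X₁ : G → ℂ) * fun g => conj ((X₂ : G → ℂ) g),
    CfsgLib.CharNormal.isIrr_mul_linear X₁.2 (CfsgLib.Char.isCharacter_conj hlamchar)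
      (by show conj ((X₂ : G → ℂ) 1) = 1; rw [hlam1, map_one])⟩ with hφ
  have hφapp : ∀ g, (φ : G → ℂ) g = (X₁ : G → ℂ) g * conj ((X₂ : G → ℂ) g) := fun g => rfl
  have hφ1 : (φ : G → ℂ) 1 = (p : ℂ) - 1 := by rw [hφapp, hlam1, map_one, mul_one, hX₁1]
  have hφreg : ∀ g : G, ¬ p ∣ orderOf g → (φ : G → ℂ) g = 1 + (χ : G → ℂ) g * conj ((X₂ : G → ℂ) g) :=
    fun g hg => by rw [hφapp, hregeq g hg, add_mul, hlamu]
  have hφsing : ∀ (i : ZMod p), i ≠ 0 → ∀ y : C, ¬ p ∣ orderOf y →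
      (φ : G → ℂ) (pw P hP i * (y : G)) = -1 := by
    intro i hi y hyr
    rw [hφapp, value_of_mem P hP hθP hZ hM hBP hind hθb hX₁ hi hyr,
      value_of_mem P hP hθP hZ hM hBP hind hθb hX₂ hi hyr, coef_X P hP hθP hS hX₁ hX₁Y hi,
      coef_X P hP hθP hS hX₂ hX₂Y hi, hs₁, hs₂]
    have h := hlamu (y : G)
    rw [hlamθ y hyr] at h
    push_cast
    rw [neg_neg, one_mul]
    linear_combination -h
  refine ⟨hZ, hrel, hzreg, X₂, φ, hlam1, fun z hz h => hfaith z ?_, hφ1, fun z hz => ?_, fun g hg => ?_,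
    fun i hi => ?_⟩
  · rw [hzlam z hz, h, mul_one, hdeg]
  · rw [hφreg z (hzreg z hz), hzlam z hz, mul_assoc, hlamu, mul_one, hφ1, Nat.cast_sub (by omega : 2 ≤ p)]
    push_cast; ring
  · by_cases hgr : p ∣ orderOf g
    · exfalso
      obtain ⟨z, hz⟩ := exists_isPPart (p := p) g
      have hz1 : z ≠ 1 := fun h => (isPPart_one_iff.mp (h ▸ hz)) hgr
      obtain ⟨w, hzw, hcomm, ⟨k, hk⟩, hw⟩ := hz
      obtain ⟨Q, hQ⟩ := (IsPGroup.of_card (n := k) (show Nat.card (Subgroup.zpowers z) = p ^ k by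
        rw [Nat.card_zpowers, hk])).exists_le_sylow
      obtain ⟨c, hc⟩ := MulAction.exists_smul_eq G Q P
      have hzP : c * z * c⁻¹ ∈ (P : Subgroup G) := by
        rw [← hc, Sylow.coe_subgroup_smul]
        exact ⟨z, hQ (Subgroup.mem_zpowers z), by simp⟩
      obtain ⟨i, hi⟩ := pw_surjOn P hP hzP
      have hi0 : i ≠ 0 := fun h => hz1 (by
        rw [h, pw_zero] at hi
        exact (conj_eq_one_iff (a := c)).mp hi.symm)
      have hcw : c * w * c⁻¹ ∈ C := by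
        rw [← centralizer_pw P hP hi0, hi, Subgroup.mem_centralizer_singleton_iff]
        calc c * w * c⁻¹ * (c * z * c⁻¹) = c * (w * z) * c⁻¹ := by group
          _ = c * (z * w) * c⁻¹ := by rw [hcomm.eq]
          _ = c * z * c⁻¹ * (c * w * c⁻¹) := by group
      have h := hφsing i hi0 ⟨c * w * c⁻¹, hcw⟩ (by
        rwa [Subgroup.orderOf_mk, show c * w * c⁻¹ = MulAut.conj c w by simp, MulEquiv.orderOf_eq])
      rw [show pw P hP i * ((⟨c * w * c⁻¹, hcw⟩ : C) : G) = c * g * c⁻¹ by rw [hi, ← hzw]; group,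
        CfsgLib.Char.isClassFunction_of_isIrr φ.2 g c, hg, hφ1] at h
      have h0 : (p : ℂ) = 0 := by linear_combination h
      exact hpp.ne_zero (by exact_mod_cast h0)
    · refine mem_center_of_norm (CfsgLib.Char.isCharacter_of_isIrr χ.2) hfaith hdeg ?_
      rw [hφreg g hgr, hφ1] at hg
      have h : (χ : G → ℂ) g * conj ((X₂ : G → ℂ) g) = ((p - 2 : ℕ) : ℂ) := by
        rw [Nat.cast_sub (by omega : 2 ≤ p)]; push_cast; linear_combination hg
      have hn : ‖(X₂ : G → ℂ) g‖ = 1 := by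
        have h' := hlamu g
        rw [Complex.mul_conj'] at h'
        have h2 : ‖(X₂ : G → ℂ) g‖ ^ 2 = 1 := by exact_mod_cast h'
        exact (pow_eq_one_iff_of_nonneg (norm_nonneg _) two_ne_zero).mp h2
      have h' := congrArg (fun w : ℂ => ‖w‖) h
      simpa [norm_mul, hn] using h'
  · have h := hφsing i hi 1 hone
    rwa [OneMemClass.coe_one, mul_one] at h

end CfsgLib.PrimeDegreeTwo.Faithful
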